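import Cfsg.Agent.Lib.HNAuto.Core

/-!
# The centraliser of the central involution of `⟨x, y, z⟩`

* `cent_c` : it is `⟨x, y, z⟩`
-/

set_option autoImplicit false
set_option maxRecDepth 100000
set_option Elab.async false

open Cfsg

namespace Cfsg.Agent.HNAuto

open Cfsg.Agent.HNPresented Cfsg.Agent.StabCert

noncomputable section

local notation "X" => toHN kx
local notation "C" => (toHN kx) ^ 2

/-- The element of a program. -/
def progEl : List (Option (List ℕ)) → Spor.HN
  | [] => 1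
  | none :: P => progEl P * tt
  | some e :: P => progEl P * he e

theorem phi_progEl : ∀ (P : List (Option (List ℕ))) (Q : Om), phi (progEl P) Q = runP P Q
  | [], Q => by rw [progEl, map_one]; rfl
  | none :: P, Q => by
    rw [progEl, map_mul, Equiv.Perm.mul_apply, phi_progEl P, runP, opL,
      show phi tt = tPerm from PresentedGroup.toGroup.of phiGen_ok]
    rfl
  | some e :: P, Q => by
    rw [progEl, map_mul, Equiv.Perm.mul_apply, phi_progEl P, he, phi_smul]
    rfl

theorem progEl_append : ∀ P P' : List (Option (List ℕ)), progEl (P ++ P') = progEl P' * progEl P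
  | [], P' => by simp [progEl]
  | none :: P, P' => by simp [progEl, progEl_append P P', mul_assoc]
  | some e :: P, P' => by simp [progEl, progEl_append P P', mul_assoc]

/-- Two cosets of a class differ. -/
def differ (i : ℕ) (v w : List ℕ) : Bool :=
  topCfg.okW v && topCfg.okW w &&
    (List.range 1408).any fun q => own i (StabCert.ev 11 HNPresented.tab (winv v ++ w) q) != own i q

/-- Representatives of two classes not commuting with the involution. -/
def witData : List (ℕ × List (Option (List ℕ)) × List LStep × (ℕ × List ℕ) × List LStep × List LStep) :=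
  [(3, [some [], none, some [4, 1], none], [(0, [], []),
    (2, [], [4, 1, 0, 5])],
   (1, []), [(10, [], [0]),
    (33, [], [4, 1, 0, 5, 4, 0, 0])], [(8, [], [0, 0, 1, 1]),
    (0, [4, 1], [4, 1, 0, 0, 1, 1, 4, 1])]),
   (8, [some [], none, some [4, 0], none, some [4, 1, 3], none, some [4, 0, 2], none], [(0, [], []),
    (1, [], [4, 0, 1, 5]),
    (5, [], [4, 1, 3, 4, 0, 1, 5, 2, 0, 5]),
    (7, [], [4, 0, 2, 4, 1, 3, 4, 0, 1, 5, 2, 0, 5, 3, 1, 5])],
   (3, []), [(12, [44], [0, 0, 1, 1, 4, 0]),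
    (10, [], [4, 0, 0, 0, 1, 1, 4, 0, 0]),
    (33, [8], [4, 1, 3, 4, 0, 0, 0, 1, 1, 4, 0, 0, 6, 5, 4, 0, 0]),
    (3, [9, 7, 7, 8, 6, 9, 6, 6, 6], [4, 0, 2, 4, 1, 3, 4, 0, 0, 0, 1, 1, 4, 0, 0, 6, 5, 4, 0, 0, 7, 3, 3, 6, 2, 7, 2, 2, 2, 5, 2, 1, 5])], [(12, [], [0, 0, 1, 1, 4, 0]),
    (10, [], [4, 0, 0, 0, 1, 1, 4, 0, 0]),
    (33, [8], [4, 1, 3, 4, 0, 0, 0, 1, 1, 4, 0, 0, 6, 5, 4, 0, 0]),
    (3, [9, 7, 7, 8, 6, 9, 6, 6, 6], [4, 0, 2, 4, 1, 3, 4, 0, 0, 0, 1, 1, 4, 0, 0, 6, 5, 4, 0, 0, 7, 3, 3, 6, 2, 7, 2, 2, 2, 5, 2, 1, 5])])]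

/-- The witnesses. -/
def witOK : Bool :=
  witData.all fun d =>
    follow' d.2.1 0 [] d.2.2.1 (fun j e => j == d.1 && topCfg.eqB e []) &&
    Nat.blt d.2.2.2.1.1 9 &&
    follow' (d.2.1 ++ [some [0, 0]]) d.2.2.2.1.1 d.2.2.2.1.2 d.2.2.2.2.1 fun ja ea =>
      follow' ([some [0, 0]] ++ d.2.1) d.2.2.2.1.1 d.2.2.2.1.2 d.2.2.2.2.2 fun jb eb' =>
        Nat.blt ja 9 && ja == jb && differ ja ea eb'

theorem wit_ok : witOK = true := by decide +kernel

/-- The involution lies in at most the classes `0`, `3`, `8`. -/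
def movedOK : Bool :=
  (List.range 9).all fun i => i == 0 || witData.any (fun d => d.1 == i) ||
    (List.range 1408).any fun q => own i (StabCert.ev 11 HNPresented.tab [0, 0] q) != own i q

theorem moved_ok : movedOK = true := by decide +kernel

theorem c_central (hK : Faith) {g : Spor.HN} (hg : g ∈ hnH) : C * g = g * C := by
  have h4 := x_pow_four hK
  have hle : hnH ≤ Subgroup.centralizer {C} := by
    rintro _ ⟨k, rfl⟩
    have hk : k ∈ Subgroup.closure (Set.range (PresentedGroup.of : G3 → HNPresented.K)) := by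
      rw [PresentedGroup.closure_range_of]; trivial
    refine Subgroup.mem_centralizer_singleton_iff.2 ?_
    induction hk using Subgroup.closure_induction with
    | mem a ha =>
      obtain ⟨a, rfl⟩ := ha
      cases a
      · exact comm_x.eq.symm
      · exact (comm_y h4).eq.symm
      · exact (comm_z h4).eq.symm
    | one => simp
    | mul a b _ _ ha hb => rw [map_mul, mul_assoc, hb, ← mul_assoc, ha, mul_assoc]
    | inv a _ ha => rw [map_inv]; exact ((show Commute (toHN a) C from ha).inv_left).eq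
  exact (Subgroup.mem_centralizer_singleton_iff.1 (hle hg)).symm

/-- The centraliser of the involution is `⟨x, y, z⟩`. -/
theorem cent_c (hK : Faith) {g : Spor.HN} (h : g * C = C * g) : g ∈ hnH := by
  rw [mem_hnH_iff]
  obtain ⟨i, hi, c, hQ⟩ := exists_om (phi g b0)
  by_contra hne
  have hi0 : i ≠ 0 := fun e => hne (by
    subst e
    rw [hQ]; exact om_eq (by omega) (by rw [cls_zero]; trivial))
  obtain ⟨kc, rfl⟩ := rho.rangeRestrict_surjective c
  have hc : eb [0, 0] ∈ cls i := by
    have h1 : phi C (phi g b0) = phi g b0 := by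
      rw [← Equiv.Perm.mul_apply, ← map_mul, ← h, map_mul, Equiv.Perm.mul_apply,
        hnH_fix C (pow_mem (show X ∈ hnH from ⟨kx, rfl⟩) 2)]
    rw [hQ, ← he_c, he, phi_smul, smul_om] at h1
    have h2 := (om_inj hi hi h1.symm).2
    have e : rb (StabCert.wordEl el [0, 0]) * rb kc = rb kc * rb (StabCert.wordEl el [0, 0]) := by
      rw [← map_mul, ← map_mul]
      refine rb_eq ?_
      rw [map_mul, map_mul]
      have := c_central hK (g := toHN kc) ⟨kc, rfl⟩
      rw [← he_c] at this
      exact this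
    change (rb kc)⁻¹ * (rb (StabCert.wordEl el [0, 0]) * rb kc) ∈ cls i at h2
    rwa [e, inv_mul_cancel_left] at h2
  have hm := moved_ok
  simp only [movedOK, List.all_eq_true, List.mem_range, Bool.or_eq_true, beq_iff_eq, List.any_eq_true,
    bne_iff_ne] at hm
  rcases hm i hi with (e | ⟨d, hd, hdi⟩) | ⟨q, hq, hne'⟩
  · exact hi0 e
  swap
  · have := own_smul hi hc (pt q)
    rw [eb_smul (by decide) hq, val_pt (ev_lt (by decide) hq), val_pt hq] at this
    exact hne' this
  have hw := wit_ok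
  simp only [witOK, List.all_eq_true, Bool.and_eq_true, Nat.blt_eq] at hw
  obtain ⟨⟨h1, hlt⟩, h2⟩ := hw d hd
  obtain ⟨j, e, hje, hr⟩ := follow'_spec _ 0 [] _ _ (by omega) h1
  simp only [Bool.and_eq_true, beq_iff_eq] at hje
  rw [eb_nil, eb_eq hje.2, eb_nil, hje.1, hdi, ← phi_progEl] at hr
  set R := progEl d.2.1 with hRdef
  -- `g` is `kc * R * h₀`
  obtain ⟨h0, hh0⟩ : (toHN kc * R)⁻¹ * g ∈ hnH := (mem_hnH_iff _).2 (by
    rw [map_mul, Equiv.Perm.mul_apply, hQ, map_inv, Equiv.Perm.inv_def, Equiv.symm_apply_eq, map_mul,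
      Equiv.Perm.mul_apply, hr, phi_smul, smul_om, mul_one])
  have hg : g = toHN kc * R * toHN h0 := by rw [hh0, mul_inv_cancel_left]
  have hRC : R * C = C * R := by
    have e1 := c_central hK (g := toHN kc) ⟨kc, rfl⟩
    have e2 := c_central hK (g := toHN h0) ⟨h0, rfl⟩
    have e3 : toHN kc * (R * C) * toHN h0 = toHN kc * (C * R) * toHN h0 := by
      calc toHN kc * (R * C) * toHN h0 = toHN kc * R * (C * toHN h0) := by simp only [mul_assoc]
        _ = toHN kc * R * toHN h0 * C := by rw [e2]; simp only [mul_assoc]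
        _ = C * (toHN kc * R * toHN h0) := by rw [← hg]; exact h
        _ = C * toHN kc * R * toHN h0 := by simp only [mul_assoc]
        _ = toHN kc * C * R * toHN h0 := by rw [e1]
        _ = _ := by simp only [mul_assoc]
    exact mul_left_cancel (mul_right_cancel e3)
  obtain ⟨ja, ea, ha, hra⟩ := follow'_spec _ _ _ _ _ hlt h2
  obtain ⟨jb, eb', hb, hrb⟩ := follow'_spec _ _ _ _ _ hlt ha
  simp only [Bool.and_eq_true, Nat.blt_eq, beq_iff_eq, differ, List.any_eq_true, List.mem_range,
    bne_iff_ne] at hb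
  obtain ⟨⟨hja, rfl⟩, ⟨hva, hvb⟩, q, hq, hneq⟩ := hb
  rw [← phi_progEl, progEl_append] at hra hrb
  simp only [progEl, one_mul, he_c, ← hRdef] at hra hrb
  rw [← hRC, hrb] at hra
  have h3 := own_smul hja (om_inj hja hja hra.symm).2 (pt q)
  rw [← eb_winv, ← eb_append, eb_smul (okW_append (okW_winv hva) hvb) hq,
    val_pt (ev_lt (okW_append (okW_winv hva) hvb) hq), val_pt hq] at h3
  exact hneq h3

end

end Cfsg.Agent.HNAuto
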