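import Cfsg.Agent.Lib.HNPresented.Upper

/-!
# The outer automorphism of the presented Harada–Norton group

* `word_eq_center` : `z t⁻² z t² z t⁻² = x²`
* `twist` : the endomorphism fixing `x`, `y` with `z ↦ z x²`, `t ↦ t²`
* `twist_twist` : its square is conjugation by `x²`
-/

set_option autoImplicit false
set_option maxRecDepth 100000

open Cfsg

namespace Cfsg.Agent.HNAuto

open Cfsg.Agent.HNPresented

noncomputable section

local notation "X" => toHN kx
local notation "Y" => toHN ky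
local notation "Z" => toHN kz
local notation "C" => (toHN kx) ^ 2

theorem rel3 {r : FreeGroup G3} (h : r ∈ rels3) :
    FreeGroup.lift (fun g : G3 => toHN (PresentedGroup.of g)) r = 1 := by
  have e : FreeGroup.lift (fun g : G3 => toHN (PresentedGroup.of g)) = toHN.comp (PresentedGroup.mk {r | r ∈ rels3}) :=
    FreeGroup.ext_hom _ _ fun g => by simp [PresentedGroup.of]
  rw [e, MonoidHom.comp_apply, rel_one h, map_one]

theorem z_sq : Z * Z = 1 := by rw [← map_mul, kz_sq, map_one]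

theorem zx_sq : Z * X * (Z * X) = 1 := by
  have h := rel3 (r := (gz * gx) ^ 2) (by simp [rels3])
  simp only [map_mul, map_pow, FreeGroup.lift_apply_of] at h
  rwa [pow_two] at h

theorem z_x_z : Z * X * Z = X⁻¹ :=
  eq_inv_of_mul_eq_one_left (by rw [mul_assoc (Z * X)]; exact zx_sq)


theorem c_sq (h4 : (X : Spor.HN) ^ 4 = 1) : C * C = 1 := by rw [← pow_add]; exact h4

theorem c_inv (h4 : (X : Spor.HN) ^ 4 = 1) : C⁻¹ = C := inv_eq_of_mul_eq_one_right (c_sq h4)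

theorem comm_x : Commute C X := (Commute.refl X).pow_left 2

theorem comm_y (h4 : (X : Spor.HN) ^ 4 = 1) : Commute C Y := by
  have h : C * Y * C = Y := by rw [← map_pow, ← map_mul, ← map_mul, x_sq_y]
  calc C * Y = C * Y * (C * C) := by rw [c_sq h4, mul_one]
    _ = C * Y * C * C := by group
    _ = Y * C := by rw [h]

theorem comm_z (h4 : (X : Spor.HN) ^ 4 = 1) : Commute C Z := by
  have h : Z * C * Z = C := by
    calc Z * C * Z = Z * X * (Z * Z) * X * Z := by rw [z_sq, pow_two]; group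
      _ = (Z * X * Z) * (Z * X * Z) := by group
      _ = C⁻¹ := by rw [z_x_z, pow_two, mul_inv_rev]
      _ = C := c_inv h4
  calc C * Z = Z * C * Z * Z := by rw [h]
    _ = Z * C := by rw [mul_assoc (Z * C), z_sq, mul_one]

theorem conj_x2 (h4 : (X : Spor.HN) ^ 4 = 1) : C * tt * C = tt⁻¹ := by
  have h := x2_conj_tt
  rwa [c_inv h4] at h

theorem c_tt (h4 : (X : Spor.HN) ^ 4 = 1) : C * tt = tt⁻¹ * C := by
  calc C * tt = C * tt * (C * C) := by rw [c_sq h4, mul_one]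
    _ = C * tt * C * C := by group
    _ = tt⁻¹ * C := by rw [conj_x2 h4]

theorem c_tt_inv (h4 : (X : Spor.HN) ^ 4 = 1) : C * tt⁻¹ = tt * C := by
  calc C * tt⁻¹ = tt * (tt⁻¹ * C) * tt⁻¹ := by group
    _ = tt * (C * tt) * tt⁻¹ := by rw [c_tt h4]
    _ = tt * C := by group

theorem zt_cube : Z * tt * (Z * tt) * (Z * tt) = 1 := by
  have h := z_tt_cube
  rwa [pow_succ, pow_two] at h

/-- The central involution of `⟨x, y, z⟩` inside `⟨z, t⟩`. -/
theorem word_eq_center (h4 : (X : Spor.HN) ^ 4 = 1) :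
    Z * (tt ^ 2)⁻¹ * Z * tt ^ 2 * Z * (tt ^ 2)⁻¹ = C := by
  have hz : Z⁻¹ = Z := inv_eq_of_mul_eq_one_right z_sq
  have e1 : X⁻¹ * Z * X = Z * C := by
    calc X⁻¹ * Z * X = (Z * X * Z) * Z * X := by rw [z_x_z]
      _ = Z * X * (Z * Z) * X := by group
      _ = Z * C := by rw [z_sq, pow_two]; group
  have e3 : X⁻¹ * tt ^ 2 * X = tt := by
    calc X⁻¹ * tt ^ 2 * X = (X⁻¹ * tt * X) * (X⁻¹ * tt * X) := by rw [pow_two]; group
      _ = (tt ^ 2)⁻¹ * (tt ^ 2)⁻¹ := by rw [x_conj_tt_inv]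
      _ = (tt ^ 5)⁻¹ * tt := by group
      _ = tt := by rw [tt_pow_five, inv_one, one_mul]
  have e4 : X⁻¹ * (tt ^ 2)⁻¹ * X = tt⁻¹ := by
    calc X⁻¹ * (tt ^ 2)⁻¹ * X = (X⁻¹ * tt ^ 2 * X)⁻¹ := by group
      _ = tt⁻¹ := by rw [e3]
  have hcz : ∀ a, C * (Z * a) = Z * (C * a) := fun a => by
    rw [← mul_assoc, (comm_z h4).eq, mul_assoc]
  have hct : ∀ a, C * (tt * a) = tt⁻¹ * (C * a) := fun a => by rw [← mul_assoc, c_tt h4, mul_assoc]
  have hcti : ∀ a, C * (tt⁻¹ * a) = tt * (C * a) := fun a => by rw [← mul_assoc, c_tt_inv h4, mul_assoc]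
  have hcc : ∀ a, C * (C * a) = a := fun a => by rw [← mul_assoc, c_sq h4, one_mul]
  have hconj : X⁻¹ * (Z * (tt ^ 2)⁻¹ * Z * tt ^ 2 * Z * (tt ^ 2)⁻¹) * X = C := by
    calc X⁻¹ * (Z * (tt ^ 2)⁻¹ * Z * tt ^ 2 * Z * (tt ^ 2)⁻¹) * X
        = (X⁻¹ * Z * X) * (X⁻¹ * (tt ^ 2)⁻¹ * X) * (X⁻¹ * Z * X) * (X⁻¹ * tt ^ 2 * X) * (X⁻¹ * Z * X) *
            (X⁻¹ * (tt ^ 2)⁻¹ * X) := by group
      _ = Z * (C * (tt⁻¹ * (Z * (C * (tt * (Z * (C * (tt⁻¹ * 1)))))))) := by rw [e1, e3, e4]; group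
      _ = Z * (tt * (Z * (tt * (Z * (tt * C))))) := by
        simp only [hcti, hct, hcz, c_tt_inv h4, mul_one, c_sq h4]
      _ = (Z * tt * (Z * tt) * (Z * tt)) * C := by group
      _ = C := by rw [zt_cube, one_mul]
  calc _ = X * (X⁻¹ * (Z * (tt ^ 2)⁻¹ * Z * tt ^ 2 * Z * (tt ^ 2)⁻¹) * X) * X⁻¹ := by group
    _ = X * C * X⁻¹ := by rw [hconj]
    _ = C := by group

/-- The new images. -/
def twistGen : Spor.HN.Gen → Spor.HN
  | .x => X
  | .y => Y
  | .z => Z * C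
  | .t => tt ^ 2

theorem twist_rels (h4 : (X : Spor.HN) ^ 4 = 1) : ∀ r ∈ hnRels, FreeGroup.lift twistGen r = 1 := by
  rintro r (⟨a, ha, -⟩ | hr)
  · simp [Spor.coxNodes, Spor.HN.edges] at ha
  have hz := comm_z h4
  have hW : ∀ {W : Spor.HN}, W ∈ Subgroup.closure {X, Y} → Commute C W := fun hW => by
    induction hW using Subgroup.closure_induction with
    | mem g hg => rcases hg with rfl | rfl; exacts [comm_x, comm_y h4]
    | one => exact Commute.one_right _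
    | mul a b _ _ ha hb => exact ha.mul_right hb
    | inv a _ ha => exact ha.inv_right
  have hX : X ∈ Subgroup.closure {X, Y} := Subgroup.subset_closure (Or.inl rfl)
  have hY : Y ∈ Subgroup.closure {X, Y} := Subgroup.subset_closure (Or.inr rfl)
  simp only [Set.mem_ofPred_eq, Spor.HN.extra, List.mem_cons, List.not_mem_nil, or_false] at hr
  rcases hr with rfl | rfl | rfl | rfl | rfl | rfl | rfl | rfl | rfl | rfl | rfl | rfl | rfl | rfl <;>
    simp only [map_mul, map_pow, map_inv, FreeGroup.lift_apply_of, twistGen]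
  · have h := rel3 (r := gy ^ 6) (by simp [rels3])
    simp only [map_mul, map_pow, map_inv, FreeGroup.lift_apply_of] at h
    exact h
  · have h := rel3 (r := (gx ^ 2) * gy * (gx ^ 2) * (gy⁻¹)) (by simp [rels3])
    simp only [map_mul, map_pow, map_inv, FreeGroup.lift_apply_of] at h
    exact h
  · have h := rel3 (r := (gx⁻¹ * gy⁻¹ * gx * gy) ^ 3) (by simp [rels3])
    simp only [map_mul, map_pow, map_inv, FreeGroup.lift_apply_of] at h
    exact h
  · have h := rel3 (r := ((gx⁻¹) * (gy ^ 2) * gx * (gy ^ 3)) ^ 3) (by simp [rels3])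
    simp only [map_mul, map_pow, map_inv, FreeGroup.lift_apply_of] at h
    exact h
  · have h := rel3 (r := (gx * gy) ^ 8) (by simp [rels3])
    simp only [map_mul, map_pow, map_inv, FreeGroup.lift_apply_of] at h
    exact h
  · have h := rel3 (r := (gx * gy * gx * (gy ^ 3)) ^ 4) (by simp [rels3])
    simp only [map_mul, map_pow, map_inv, FreeGroup.lift_apply_of] at h
    exact h
  · calc (Z * C) ^ 2 = Z * (C * Z) * C := by rw [pow_two (Z * C)]; simp only [mul_assoc]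
      _ = Z * Z * (C * C) := by rw [hz.eq]; group
      _ = 1 := by rw [z_sq, c_sq h4, one_mul]
  · calc (Z * C * X) ^ 2 = Z * (C * X) * Z * (C * X) := by rw [pow_two (Z * C * X)]; simp only [mul_assoc]
      _ = Z * X * (C * Z) * C * X := by rw [comm_x.eq]; group
      _ = Z * X * Z * (C * C) * X := by rw [hz.eq]; group
      _ = 1 := by rw [c_sq h4, mul_one, mul_assoc]; exact zx_sq
  · have hW' : Commute C (Y * X * Y * X * Y ^ 2 * X * Y⁻¹) :=
      hW (mul_mem (mul_mem (mul_mem (mul_mem (mul_mem (mul_mem hY hX) hY) hX) (pow_mem hY 2)) hX) (inv_mem hY))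
    have h : Z⁻¹ * (Y * X * Y * X * Y ^ 2 * X * Y⁻¹)⁻¹ * Z * (Y * X * Y * X * Y ^ 2 * X * Y⁻¹) * C⁻¹ = 1 := by
      have h' := rel3
        (r := (gz⁻¹ * (gy * gx * gy * gx * (gy ^ 2) * gx * (gy⁻¹))⁻¹ * gz *
          (gy * gx * gy * gx * (gy ^ 2) * gx * (gy⁻¹))) * ((gx ^ 2)⁻¹)) (by simp [rels3])
      simp only [map_mul, map_pow, map_inv, FreeGroup.lift_apply_of] at h'
      exact h'
    generalize Y * X * Y * X * Y ^ 2 * X * Y⁻¹ = W at hW' h ⊢
    calc (Z * C)⁻¹ * W⁻¹ * (Z * C) * W * C⁻¹ = C⁻¹ * (Z⁻¹ * W⁻¹ * Z) * (C * W) * C⁻¹ := by group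
      _ = C⁻¹ * (Z⁻¹ * W⁻¹ * Z * W) := by rw [hW'.eq]; group
      _ = 1 := by rw [mul_inv_eq_one.1 h, inv_mul_cancel]
  · have hV : Commute C (Y ^ 3 * X * Y * X * Y) :=
      hW (mul_mem (mul_mem (mul_mem (mul_mem (pow_mem hY 3) hX) hY) hX) hY)
    have h : Z * (((Y ^ 3 * X * Y * X * Y)⁻¹ * Z * (Y ^ 3 * X * Y * X * Y)) * X) ^ 3 = 1 := by
      have h' := rel3
        (r := gz * (((((gy ^ 3) * gx * gy * gx * gy)⁻¹ * gz * ((gy ^ 3) * gx * gy * gx * gy)) * gx) ^ 3))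
        (by simp [rels3])
      simp only [map_mul, map_pow, map_inv, FreeGroup.lift_apply_of] at h'
      exact h'
    generalize Y ^ 3 * X * Y * X * Y = V at hV h ⊢
    have hA : Commute C (V⁻¹ * Z * V * X) := ((hV.inv_right.mul_right hz).mul_right hV).mul_right comm_x
    have e : V⁻¹ * (Z * C) * V * X = V⁻¹ * Z * V * X * C := by
      calc V⁻¹ * (Z * C) * V * X = V⁻¹ * Z * (C * V) * X := by group
        _ = V⁻¹ * Z * V * (C * X) := by rw [hV.eq]; group
        _ = _ := by rw [comm_x.eq]; group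
    rw [e, hA.symm.mul_pow, show C ^ 3 = C by rw [pow_succ, pow_two, c_sq h4, one_mul]]
    calc Z * C * ((V⁻¹ * Z * V * X) ^ 3 * C) = Z * (C * (V⁻¹ * Z * V * X) ^ 3) * C := by group
      _ = Z * (V⁻¹ * Z * V * X) ^ 3 * (C * C) := by rw [(hA.pow_right 3).eq]; group
      _ = 1 := by rw [h, c_sq h4, one_mul]
  · rw [← pow_mul, pow_mul', tt_pow_five, one_pow]
  · calc X⁻¹ * tt ^ 2 * X * (tt ^ 2) ^ 2 = (X⁻¹ * tt * X) * (X⁻¹ * tt * X) * (tt ^ 2 * tt ^ 2) := by
          rw [pow_two (tt ^ 2), pow_two tt]; group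
      _ = 1 := by rw [x_conj_tt_inv]; group
  · have h : Commute Y (tt ^ 2) := (Commute.symm tt_comm_y).pow_right 2
    calc (tt ^ 2)⁻¹ * Y⁻¹ * tt ^ 2 * Y = (tt ^ 2)⁻¹ * Y⁻¹ * (tt ^ 2 * Y) := by group
      _ = 1 := by rw [← h.eq]; group
  · have hw := word_eq_center h4
    have hc2 : C * tt ^ 2 = (tt ^ 2)⁻¹ * C := by
      calc C * tt ^ 2 = C * tt * tt := by rw [pow_two tt, mul_assoc]
        _ = tt⁻¹ * C * tt := by rw [c_tt h4]
        _ = tt⁻¹ * (tt⁻¹ * C) := by rw [mul_assoc, c_tt h4]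
        _ = _ := by group
    calc (Z * C * tt ^ 2) ^ 3 = Z * (C * tt ^ 2) * Z * (C * tt ^ 2) * Z * (C * tt ^ 2) := by
          rw [pow_succ, pow_two (Z * C * tt ^ 2)]; simp only [mul_assoc]
      _ = Z * (tt ^ 2)⁻¹ * (C * Z) * (tt ^ 2)⁻¹ * (C * Z) * (tt ^ 2)⁻¹ * C := by rw [hc2]; group
      _ = Z * (tt ^ 2)⁻¹ * Z * (C * (tt ^ 2)⁻¹) * Z * C * (tt ^ 2)⁻¹ * C := by rw [hz.eq]; group
      _ = Z * (tt ^ 2)⁻¹ * Z * tt ^ 2 * (C * Z) * C * (tt ^ 2)⁻¹ * C := by
        rw [show C * (tt ^ 2)⁻¹ = tt ^ 2 * C by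
          calc C * (tt ^ 2)⁻¹ = tt ^ 2 * ((tt ^ 2)⁻¹ * C) * (tt ^ 2)⁻¹ := by group
            _ = tt ^ 2 * C := by rw [← hc2]; group]
        group
      _ = (Z * (tt ^ 2)⁻¹ * Z * tt ^ 2 * Z * (tt ^ 2)⁻¹) * C := by
        rw [hz.eq]
        calc _ = Z * (tt ^ 2)⁻¹ * Z * tt ^ 2 * Z * (C * C) * (tt ^ 2)⁻¹ * C := by group
          _ = _ := by rw [c_sq h4, mul_one]
      _ = 1 := by rw [hw, c_sq h4]

/-- The outer automorphism, as an endomorphism. -/
def twistHom (h4 : (X : Spor.HN) ^ 4 = 1) : Spor.HN →* Spor.HN := PresentedGroup.toGroup (twist_rels h4)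

theorem twistHom_x (h4 : (X : Spor.HN) ^ 4 = 1) : twistHom h4 X = X := by
  rw [toHN_of]; exact PresentedGroup.toGroup.of _

theorem twistHom_y (h4 : (X : Spor.HN) ^ 4 = 1) : twistHom h4 Y = Y := by
  rw [toHN_of]; exact PresentedGroup.toGroup.of _

theorem twistHom_z (h4 : (X : Spor.HN) ^ 4 = 1) : twistHom h4 Z = Z * C := by
  rw [toHN_of]; exact PresentedGroup.toGroup.of _

theorem twistHom_t (h4 : (X : Spor.HN) ^ 4 = 1) : twistHom h4 tt = tt ^ 2 := PresentedGroup.toGroup.of _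

/-- Two homomorphisms agreeing on the generators are equal. -/
theorem hn_hom_ext {M : Type*} [Group M] {f g : Spor.HN →* M} (hx : f X = g X) (hy : f Y = g Y)
    (hz : f Z = g Z) (ht : f tt = g tt) : f = g := by
  refine PresentedGroup.ext fun a => ?_
  cases a
  · rwa [toHN_of] at hx
  · rwa [toHN_of] at hy
  · rwa [toHN_of] at hz
  · exact ht

theorem twistHom_twistHom (h4 : (X : Spor.HN) ^ 4 = 1) :
    (twistHom h4).comp (twistHom h4) = (MulAut.conj C).toMonoidHom := by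
  have hc : ∀ a, Commute C a → (MulAut.conj C).toMonoidHom a = a := fun a ha => by
    show C * a * C⁻¹ = a
    rw [ha.eq, mul_inv_cancel_right]
  refine hn_hom_ext ?_ ?_ ?_ ?_
  · rw [MonoidHom.comp_apply, twistHom_x, twistHom_x, hc _ comm_x]
  · rw [MonoidHom.comp_apply, twistHom_y, twistHom_y, hc _ (comm_y h4)]
  · rw [MonoidHom.comp_apply, twistHom_z, map_mul, map_pow, twistHom_z, twistHom_x, hc _ (comm_z h4), mul_assoc,
      c_sq h4, mul_one]
  · rw [MonoidHom.comp_apply, twistHom_t, map_pow, twistHom_t]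
    show (tt ^ 2) ^ 2 = C * tt * C⁻¹
    rw [c_inv h4, conj_x2 h4, eq_inv_iff_mul_eq_one, ← pow_mul, ← pow_succ]
    exact tt_pow_five

/-- The outer automorphism. -/
def twist (h4 : (X : Spor.HN) ^ 4 = 1) : MulAut Spor.HN :=
  MulEquiv.ofBijective (twistHom h4) (by
    have h : Function.Bijective ((twistHom h4).comp (twistHom h4)) := by
      rw [twistHom_twistHom h4]
      exact (MulAut.conj C).bijective
    exact ⟨fun a b e => h.1 (congrArg (twistHom h4) e), fun b => (h.2 b).elim fun a ha => ⟨twistHom h4 a, ha⟩⟩)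

theorem twist_apply (h4 : (X : Spor.HN) ^ 4 = 1) (g : Spor.HN) : twist h4 g = twistHom h4 g := rfl

end

end Cfsg.Agent.HNAuto
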