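import Cfsg.Agent.Lib.HNAuto.Searches
import Cfsg.Agent.Lib.HNAuto.Twist

/-!
# The action on 1539000 cosets and the centraliser of the point stabiliser

* `Faith`, `faith_of_card` : `K` is faithfully represented
* `mem_hnH_iff`, `phi_injective` : the stabiliser of the base, faithfulness
* `cent_fixGroup` : the centraliser of the image of the point stabiliser is `⟨t, x²⟩`
-/

set_option autoImplicit false
set_option maxRecDepth 100000
set_option Elab.async false

open Cfsg

namespace Cfsg.Agent.HNAuto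

open Cfsg.Agent.HNPresented Cfsg.Agent.StabCert

noncomputable section

local notation "X" => toHN kx
local notation "C" => (toHN kx) ^ 2

/-- The base coset. -/
abbrev b0 : Om := om 0 1

/-- `K` is faithfully represented in `HN`. -/
def Faith : Prop := ∀ k : K, rb k = 1 → toHN k = 1

theorem phi_smul (k : K) (Q : Om) : phi (toHN k) Q = rb k • Q := by rw [phi_toHN]; rfl

theorem kb_transitive (q : Fin 1408) : ∃ g : Kb, g • pt 0 = q := by
  obtain ⟨n, hn, e, -, he⟩ := exists_path (show 0 < 9 by omega) q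
  refine ⟨e * (eb (topCfg.fact n).2.1)⁻¹, ?_⟩
  rw [← eb_src (sel_spec hn).1, mul_smul, inv_smul_smul]
  exact he

theorem rb_eq_one_of_trivial {k : K} (h : ∀ Q : Om, rb k • Q = Q) : rb k = 1 := by
  refine eq_of_smul_base fun b _ => ?_
  obtain ⟨g, hg⟩ := kb_transitive (pt b)
  have h1 := h (om 1 g)
  rw [smul_om] at h1
  have h2 := (mem_cls_one _).1 ((om_inj (by omega) (by omega) h1.symm).2)
  rw [mul_smul, mul_smul, hg, inv_smul_eq_iff, hg] at h2
  exact h2

theorem faith_of_card (h : Nat.card hnH = 177408000) : Faith := by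
  have hf : Finite hnH := Nat.finite_of_card_ne_zero (by rw [h]; omega)
  let f : hnH → Kb := fun g => rb (Classical.choose g.2)
  have hker : ∀ k : K, toHN k = 1 → rb k = 1 := fun k hk =>
    rb_eq_one_of_trivial fun Q => by rw [← phi_smul, hk, map_one]; rfl
  have hf' : ∀ (k : K) (hk : toHN k ∈ hnH), f ⟨toHN k, hk⟩ = rb k := fun k hk => by
    show rb _ = rb k
    rw [← inv_mul_eq_one, ← map_inv, ← map_mul]
    refine hker _ ?_
    rw [map_mul, map_inv, inv_mul_eq_one]
    exact Classical.choose_spec (show toHN k ∈ toHN.range from hk)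
  have hs : Function.Surjective f := by
    intro c
    obtain ⟨k, rfl⟩ := rho.rangeRestrict_surjective c
    exact ⟨⟨toHN k, k, rfl⟩, hf' k _⟩
  have hb := hs.bijective_of_nat_card_le (by rw [h, natCard_Kb])
  intro k hk
  have e : f ⟨toHN k, k, rfl⟩ = f ⟨toHN 1, 1, rfl⟩ := by
    rw [hf' k ⟨k, rfl⟩, hf' 1 ⟨1, rfl⟩, hk, map_one]
  simpa using congrArg Subtype.val (hb.1 e)

theorem mem_hnH_iff (g : Spor.HN) : g ∈ hnH ↔ phi g b0 = b0 := by
  refine ⟨hnH_fix g, fun hg => ?_⟩
  have hfin : Finite (Spor.HN ⧸ hnH) := Finite.of_surjective toCoset toCoset_surjective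
  let F : Spor.HN ⧸ hnH → Om := fun q => Quotient.liftOn' q (fun g => phi g b0) fun a b hab => by
    rw [QuotientGroup.leftRel_apply] at hab
    have := hnH_fix _ hab
    rw [map_mul, Equiv.Perm.mul_apply, map_inv, Equiv.Perm.inv_def, Equiv.symm_apply_eq] at this
    exact this.symm
  have hs : Function.Surjective F := fun Q => by
    obtain ⟨g, hg⟩ := orbPhi_eq_univ Q
    exact ⟨QuotientGroup.mk g, hg⟩
  have hb := hs.bijective_of_nat_card_le (by rw [natCard_Om]; exact hn_index.le)
  have e : F (QuotientGroup.mk g) = F (QuotientGroup.mk 1) := by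
    show phi g b0 = phi 1 b0
    rw [hg, map_one]; rfl
  simpa using QuotientGroup.eq.1 (hb.1 e)

theorem phi_injective (hK : Faith) : Function.Injective phi := by
  refine (injective_iff_map_eq_one phi).2 fun g hg => ?_
  obtain ⟨k, rfl⟩ := (mem_hnH_iff g).2 (by rw [hg]; rfl)
  exact hK k (rb_eq_one_of_trivial fun Q => by rw [← phi_smul, hg]; rfl)

theorem toHN_eq (hK : Faith) {k k' : K} (h : rb k = rb k') : toHN k = toHN k' := by
  rw [← inv_mul_eq_one, ← map_inv, ← map_mul]
  exact hK _ (by rw [map_mul, map_inv, h, inv_mul_cancel])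

theorem rb_eq {k k' : K} (h : toHN k = toHN k') : rb k = rb k' := by
  rw [← inv_mul_eq_one, ← map_inv, ← map_mul]
  refine rb_eq_one_of_trivial fun Q => ?_
  rw [← phi_smul, map_mul, map_inv, h, inv_mul_cancel, map_one]; rfl

/-- The element of a word in HN. -/
def he (v : List ℕ) : Spor.HN := toHN (StabCert.wordEl el v)

theorem rb_wordEl (v : List ℕ) : rb (StabCert.wordEl el v) = eb v := rfl

theorem he_append (v w : List ℕ) : he (v ++ w) = he v * he w := by
  rw [he, StabCert.wordEl_append, map_mul]; rfl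

theorem he_nil : he [] = 1 := by simp [he, StabCert.wordEl]

theorem he_winv (v : List ℕ) : he (winv v) = (he v)⁻¹ := by
  rw [he, wordEl_winv el_inv, map_inv]; rfl

theorem he_x : he [0] = X := by simp [he, StabCert.wordEl, el]

theorem he_x_inv : he [1] = X⁻¹ := by simp [he, StabCert.wordEl, el]

theorem he_y : he [2] = toHN ky := by simp [he, StabCert.wordEl, el]

theorem he_z : he [4] = toHN kz := by simp [he, StabCert.wordEl, el]

theorem he_c : he [0, 0] = C := by simp [he, StabCert.wordEl, el, pow_two]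

theorem he_mem (v : List ℕ) : he v ∈ hnH := ⟨_, rfl⟩

theorem he_eq (hK : Faith) {v w : List ℕ} (h : topCfg.eqB v w = true) : he v = he w :=
  toHN_eq hK (eb_eq h)

theorem eb_of_he {v w : List ℕ} (h : he v = he w) : eb v = eb w := rb_eq h

theorem x4_ok : topCfg.eqB [0, 0, 0, 0] [] = true := by decide +kernel

theorem x_pow_four (hK : Faith) : (X : Spor.HN) ^ 4 = 1 := by
  have h := he_eq hK x4_ok
  rw [he_nil] at h
  rw [← h, he]
  simp [StabCert.wordEl, el, pow_succ, mul_assoc]

/-- The image of the point stabiliser. -/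
def hnU : Subgroup Spor.HN := fixGroup.map toHN

theorem hnU_le : hnU ≤ hnH := fun _ ⟨k, _, e⟩ => ⟨k, e⟩

theorem tt_comm_hnU {u : Spor.HN} (hu : u ∈ hnU) : Commute u tt := by
  obtain ⟨k, hk, rfl⟩ := hu
  exact toHN_fixGroup_comm hk

theorem t_base : phi tt b0 = om 1 1 := by
  have h : stepL 0 [] (0, [], []) = true := by decide +kernel
  have e := tMap_step (show 0 < 9 by omega) h
  rw [fact_zero, eb_nil] at e
  rw [show phi tt = tPerm from PresentedGroup.toGroup.of phiGen_ok]
  exact e

theorem tt_not_mem : tt ∉ hnH := fun h => by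
  have e := t_base.symm.trans (hnH_fix tt h)
  exact absurd (om_inj (by omega) (by omega) e).1 (by omega)

theorem five_dvd {i : ℤ} (h : tt ^ i ∈ hnH) : (5 : ℤ) ∣ i := by
  by_contra h5
  refine tt_not_mem ?_
  have hcop : Int.gcd i 5 = 1 := by
    rw [Int.gcd_comm]
    exact (Nat.Prime.coprime_iff_not_dvd (by norm_num)).2 fun d => h5 (Int.ofNat_dvd_left.2 d)
  have e := Int.gcd_eq_gcd_ab i 5
  rw [hcop, Nat.cast_one] at e
  rw [← zpow_one tt, e, zpow_add, zpow_mul, zpow_mul]
  refine mul_mem (zpow_mem h _) (zpow_mem ?_ _)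
  have h5' : tt ^ (5 : ℤ) = 1 := by exact_mod_cast tt_pow_five
  rw [h5']; exact one_mem _

theorem mem_cls_one' {g : Kb} : g ∈ cls 1 ↔ ∃ k ∈ fixGroup, rb k = g :=
  ⟨fun h => exists_fixGroup ((mem_cls_one g).1 h), fun ⟨_, hk, e⟩ => e ▸ (mem_cls_one _).2 (fixGroup_fix hk)⟩

theorem clsOrd_small : ((List.range 9).all fun i => Nat.ble i 1 || Nat.blt (clsOrd i) 126000) = true := by
  decide +kernel

/-- Points fixed by the generators of the point stabiliser. -/
def fixedOK : Bool :=
  (List.range 1408).all fun q => [0, 1, 2, 4].contains q ||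
    fixWords.any fun e => StabCert.ev 11 HNPresented.tab e q != q

theorem fixed_ok : fixedOK = true := by decide +kernel

theorem xpow_ok : (([0, 1, 2, 4] : List ℕ).all fun q =>
    (List.range 4).any fun j => StabCert.ev 11 HNPresented.tab (List.replicate j 0) 0 == q) = true := by
  decide +kernel

/-- A point fixed by the stabiliser of `0` is the image of `0` under a power of `x`. -/
theorem fixed_of_all {q : Fin 1408} (h : ∀ g : Kb, g • pt 0 = pt 0 → g • q = q) :
    ∃ j < 4, eb (List.replicate j 0) • pt 0 = q := by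
  have hq : q.val ∈ ([0, 1, 2, 4] : List ℕ) := by
    have hf := fixed_ok
    simp only [fixedOK, List.all_eq_true, List.mem_range, Bool.or_eq_true, List.contains_iff_mem,
      List.any_eq_true, bne_iff_ne] at hf
    refine (hf q.val q.isLt).resolve_right ?_
    rintro ⟨e, he', hne⟩
    have hok : topCfg.okW e = true ∧ StabCert.ev 11 HNPresented.tab e 0 = 0 := by
      have : (fixWords.all fun e => topCfg.okW e && StabCert.ev 11 HNPresented.tab e 0 == 0) = true := by
        decide +kernel
      simp only [List.all_eq_true, Bool.and_eq_true, beq_iff_eq] at this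
      exact this e he'
    have h1 := h (eb e) (by rw [eb_smul hok.1 (show 0 < 1408 by omega), hok.2])
    have h2 := eb_smul hok.1 q.isLt
    rw [pt_val, h1] at h2
    exact hne ((val_pt (ev_lt hok.1 q.isLt)).symm.trans (congrArg Fin.val h2).symm)
  have hx := xpow_ok
  simp only [List.all_eq_true, List.any_eq_true, List.mem_range, beq_iff_eq] at hx
  obtain ⟨j, hj, e⟩ := hx _ hq
  refine ⟨j, hj, ?_⟩
  rw [eb_smul (okW_of fun a ha => by rw [List.eq_of_mem_replicate ha]; decide) (show 0 < 1408 by omega), e, pt_val]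

/-- A class fixed pointwise by the stabiliser of `0`. -/
theorem om_fixed {Q : Om} (h : ∀ g : Kb, g • pt 0 = pt 0 → g • Q = Q) :
    Q = b0 ∨ ∃ j < 4, Q = eb (List.replicate j 0) • om 1 1 := by
  obtain ⟨i, hi, c, rfl⟩ := exists_om Q
  have hmem : ∀ g : Kb, g • pt 0 = pt 0 → c⁻¹ * g * c ∈ cls i := fun g hg => by
    have h1 := h g hg
    rw [smul_om] at h1
    have h2 := (om_inj hi hi h1).2
    have h3 := inv_mem h2
    rwa [mul_inv_rev, inv_inv, ← mul_assoc] at h3
  rcases Nat.lt_or_ge i 2 with h2 | h2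
  · interval_cases i
    · exact Or.inl (om_eq (by omega) (by rw [cls_zero]; trivial))
    · right
      obtain ⟨j, hj, e⟩ := fixed_of_all (q := c • pt 0) fun g hg => by
        have := (mem_cls_one _).1 (hmem g hg)
        rwa [mul_smul, mul_smul, inv_smul_eq_iff] at this
      refine ⟨j, hj, ?_⟩
      rw [smul_om, mul_one]
      exact om_eq (by omega) ((mem_cls_one _).2 (by rw [mul_smul, e, inv_smul_smul]))
  exfalso
  have hle : Nat.card (cls 1) ≤ Nat.card (cls i) := by
    refine Nat.card_le_card_of_injective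
      (fun g : cls 1 => (⟨c⁻¹ * g * c, hmem g ((mem_cls_one _).1 g.2)⟩ : cls i)) fun a b e => ?_
    exact Subtype.ext (mul_left_cancel (mul_right_cancel (congrArg Subtype.val e)))
  rw [natCard_cls_pos le_rfl (by omega), natCard_cls_pos (by omega) hi] at hle
  have hs := clsOrd_small
  simp only [List.all_eq_true, List.mem_range, Bool.or_eq_true, Nat.ble_eq, Nat.blt_eq] at hs
  have h1 := (hs i hi).resolve_left (by omega)
  have h2' : clsOrd 1 = 126000 := by decide +kernel
  omega

theorem eb_replicate (j : ℕ) : eb (List.replicate j 0) = (rb kx) ^ j := by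
  rw [← rb_wordEl, ← map_pow]
  simp [StabCert.wordEl, el]

theorem x2_central_ok : (([[2], [1, 2, 0], [0, 2, 1], [0, 0, 0, 0]] : List (List ℕ)).all fun e =>
    topCfg.eqB ([0, 0] ++ e) (e ++ [0, 0])) = true := by decide +kernel

theorem c_comm_fix {g : Kb} (hg : g • pt 0 = pt 0) : Commute (eb [0, 0]) g := by
  have h := x2_central_ok
  simp only [List.all_eq_true] at h
  have hle := fixGroup_image_le (S := Subgroup.centralizer {eb [0, 0]}) (fun e he' => by
    refine Subgroup.mem_centralizer_singleton_iff.2 ?_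
    rw [← eb_append, ← eb_append]
    exact (eb_eq (h e he')).symm) g hg
  exact (Subgroup.mem_centralizer_singleton_iff.1 hle).symm

/-- The centraliser of class `1` in the image on 1408 points. -/
theorem cent_cls_one {k : Kb} (h : ∀ g : Kb, g • pt 0 = pt 0 → k * g = g * k) :
    k = 1 ∨ k = eb [0, 0] := by
  obtain ⟨j, hj, e⟩ := fixed_of_all (q := k • pt 0) fun g hg => by
    rw [← mul_smul, ← h g hg, mul_smul, hg]
  have hu : (eb (List.replicate j 0))⁻¹ * k ∈ cls 1 := by
    rw [mem_cls_one, mul_smul, inv_smul_eq_iff, e]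
  have key : ∀ g : Kb, g • pt 0 = pt 0 →
      (eb (List.replicate j 0))⁻¹ * k * g = (rb kx ^ j)⁻¹ * g * rb kx ^ j * ((eb (List.replicate j 0))⁻¹ * k) :=
    fun g hg => by rw [eb_replicate, mul_assoc, h g hg]; group
  have e0 : eb [0] = rb kx := by simpa using eb_replicate 1
  have e00 : eb [0, 0] = rb kx ^ 2 := by simpa using eb_replicate 2
  have ec : ∀ g : Kb, g • pt 0 = pt 0 → (rb kx ^ 2)⁻¹ * g * rb kx ^ 2 = g := fun g hg => by
    have := (c_comm_fix hg).eq
    rw [e00] at this
    rw [mul_assoc, ← this, inv_mul_cancel_left]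
  interval_cases j
  · left
    have := no_comm hu fun g hg => by simpa using key g hg
    simpa [eb_nil] using this
  · exfalso
    refine no_twist hu fun g hg => ?_
    rw [e0]
    simpa using key g hg
  · right
    have := no_comm hu fun g hg => by rw [key g hg, ec g hg]
    rw [inv_mul_eq_one] at this
    exact this.symm
  · exfalso
    refine no_twist hu fun g hg => ?_
    have hg' : ((rb kx)⁻¹ * g * rb kx) • pt 0 = pt 0 := by
      obtain ⟨k', hk', rfl⟩ := exists_fixGroup hg
      rw [← map_inv, ← map_mul, ← map_mul]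
      exact fixGroup_fix (x_conj_fixGroup hk').2
    rw [e0, key g hg]
    congr 1
    rw [show rb kx ^ 3 = rb kx * rb kx ^ 2 from pow_succ' (rb kx) 2,
      show (rb kx * rb kx ^ 2)⁻¹ * g * (rb kx * rb kx ^ 2) =
        (rb kx ^ 2)⁻¹ * ((rb kx)⁻¹ * g * rb kx) * rb kx ^ 2 by group, ec _ hg']

/-- The centraliser of the image of the point stabiliser. -/
theorem cent_hnU (hK : Faith) {g : Spor.HN} (h : ∀ u ∈ hnU, g * u = u * g) :
    ∃ i : ℤ, g = tt ^ i ∨ g = tt ^ i * C := by
  have hfix : ∀ c : Kb, c • pt 0 = pt 0 → c • phi g b0 = phi g b0 := fun c hc => by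
    obtain ⟨k, hk, rfl⟩ := exists_fixGroup hc
    rw [← phi_smul, ← Equiv.Perm.mul_apply, ← map_mul, ← h _ ⟨k, hk, rfl⟩, map_mul, Equiv.Perm.mul_apply,
      hnH_fix _ ⟨k, rfl⟩]
  -- a power of `t` with the same image of the base
  obtain ⟨i, hi⟩ : ∃ i : ℤ, phi g b0 = phi (tt ^ i) b0 := by
    rcases om_fixed hfix with e | ⟨j, -, e⟩
    · exact ⟨0, by rw [e, zpow_zero, map_one]; rfl⟩
    · refine ⟨(2 : ℤ) ^ j, ?_⟩
      rw [e, ← t_base, eb_replicate, ← map_pow, ← phi_smul, ← Equiv.Perm.mul_apply, ← map_mul, map_pow,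
        show X ^ j * tt = tt ^ ((2 : ℤ) ^ j) * X ^ j by
          rw [show ((2 : ℤ) ^ j) = ((2 ^ j : ℕ) : ℤ) by push_cast; rfl, zpow_natCast, ← x_conj_pow j,
            inv_mul_cancel_right],
        map_mul, Equiv.Perm.mul_apply, hnH_fix (X ^ j) (pow_mem (show X ∈ hnH from ⟨kx, rfl⟩) j)]
  obtain ⟨k, hk⟩ : (tt ^ i)⁻¹ * g ∈ hnH := (mem_hnH_iff _).2 (by
    rw [map_mul, Equiv.Perm.mul_apply, hi, ← Equiv.Perm.mul_apply, ← map_mul, inv_mul_cancel, map_one]; rfl)
  have hcomm : ∀ u ∈ hnU, toHN k * u = u * toHN k := fun u hu => by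
    rw [hk]
    exact ((((tt_comm_hnU hu).zpow_right i).inv_right).symm.mul_left (h u hu)).eq
  refine ⟨i, (cent_cls_one (k := rb k) fun c hc => ?_).imp (fun e => ?_) fun e => ?_⟩
  · obtain ⟨k', hk', rfl⟩ := exists_fixGroup hc
    rw [← map_mul, ← map_mul]
    refine rb_eq ?_
    rw [map_mul, map_mul]
    exact hcomm _ ⟨k', hk', rfl⟩
  · have e' : toHN k = 1 := hK k e
    rw [e'] at hk
    exact (inv_mul_eq_one.1 hk.symm).symm
  · have e' : toHN k = C := (toHN_eq hK e).trans he_c
    rw [e'] at hk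
    rw [hk, mul_inv_cancel_left]

end

end Cfsg.Agent.HNAuto
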