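import Cfsg.Agent.Lib.HNPresented.Lower

/-!
# The twisting elements of the stabiliser of a point

* `chain_split` : the first factor along a stabiliser chain
* `no_comm` : only `1` in class `1` commutes with the class
* `no_twist` : no element of class `1` induces the conjugation by `x` on it
-/

set_option autoImplicit false
set_option maxRecDepth 100000
set_option Elab.async false

open Cfsg

namespace Cfsg.Agent.HNAuto

open Cfsg.Agent.HNPresented Cfsg.Agent.StabCert

section split

variable {G X : Type*} [Group G] [Finite G] {ρ : G →* Equiv.Perm X} {gen : ℕ → G} {pt : ℕ → X}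
variable {w d m : ℕ} {tab B : List ℕ}

theorem chain_split (hact : TablesSound ρ gen pt w d m tab)
    (hinj : Set.InjOn pt {i | i < d}) (hB : ∀ β ∈ B, β < d)
    (hdet : ∀ g ∈ sub gen (List.range m), (∀ β ∈ B, ρ g (pt β) = pt β) → g = 1)
    {L : Lev} {r : List Lev} (h : chainOK w d m tab B (L :: r) = true) :
    (∀ l ∈ L.words, ∀ k ∈ l, k < m) ∧ L.b < d ∧
      (∀ k ∈ sub gen (nextGens r), ρ k (pt L.b) = pt L.b) ∧
      ∀ g ∈ sub gen L.gens, ∃ l ∈ L.words, ∃ k ∈ sub gen (nextGens r), g = StabCert.wordEl gen l * k := by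
  have hc := (chain_spec hact hinj hB hdet _ h).2.1
  simp only [chainOK, Bool.and_eq_true] at h
  obtain ⟨hlev, hr⟩ := h
  have hc' := (chain_spec hact hinj hB hdet _ hr).2.1
  simp only [levOK, Bool.and_eq_true, List.all_eq_true, beq_iff_eq, List.contains_iff_mem,
    Nat.blt_eq] at hlev
  obtain ⟨⟨⟨⟨⟨⟨hb, hgm⟩, hnext⟩, hwg⟩, -⟩, hdist⟩, -⟩ := hlev
  have hfix : ∀ k ∈ sub gen (nextGens r), ρ k (pt L.b) = pt L.b := by
    intro k hk
    induction hk using Subgroup.closure_induction with
    | mem g hg =>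
      obtain ⟨j, hj, rfl⟩ := hg
      obtain ⟨hjg, hjb⟩ := hnext j hj
      have := (hact j (hgm j hjg) L.b hb).2
      rwa [hjb] at this
    | one => rw [map_one]; rfl
    | mul a b _ _ ha hb => rw [map_mul, Equiv.Perm.mul_apply, hb, ha]
    | inv a _ ha => rw [map_inv, Equiv.Perm.inv_def, Equiv.symm_apply_eq, ha]
  refine ⟨fun l hl k hk => hgm k (hwg l hl k hk), hb, hfix, fun g hg => ?_⟩
  have hsub : sub gen (nextGens r) ≤ sub gen L.gens :=
    Subgroup.closure_mono (Set.image_mono fun k hk => (hnext k hk).1)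
  let f : Fin L.words.length × sub gen (nextGens r) → sub gen L.gens := fun p =>
    ⟨StabCert.wordEl gen L.words[p.1.val] * p.2.1,
      mul_mem (wordEl_mem gen (hwg _ (List.getElem_mem p.1.isLt))) (hsub p.2.2)⟩
  have hin : Function.Injective f := by
    rintro ⟨i, k⟩ ⟨j, k'⟩ e
    have e' : StabCert.wordEl gen L.words[i.val] * k.1 = StabCert.wordEl gen L.words[j.val] * k'.1 :=
      congrArg Subtype.val e
    have hev : ∀ i : Fin L.words.length, ∀ k : sub gen (nextGens r),
        ρ (StabCert.wordEl gen L.words[i.val] * k.1) (pt L.b) = pt (StabCert.ev w tab L.words[i.val] L.b) ∧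
          StabCert.ev w tab L.words[i.val] L.b < d := fun i k => by
      have hs := StabCert.ev_spec hact _ (fun a ha => hgm a (hwg _ (List.getElem_mem i.isLt) a ha)) _ hb
      rw [map_mul, Equiv.Perm.mul_apply, hfix _ k.2]
      exact ⟨hs.2, hs.1⟩
    have e2 := congrArg (fun g => ρ g (pt L.b)) e'
    simp only [(hev i k).1, (hev j k').1] at e2
    have e3 := hinj (hev i k).2 (hev j k').2 e2
    have hij : i = j := Fin.ext (((distinctFrom_spec _ _ hdist).1.getElem_inj_iff (i := i.val) (j := j.val)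
      (hi := by simp) (hj := by simp)).1 (by simpa using e3))
    subst hij
    exact Prod.ext rfl (Subtype.ext (mul_left_cancel e'))
  have hbij : Function.Bijective f := hin.bijective_of_nat_card_le (by
    rw [Nat.card_prod, Nat.card_fin, hc', show L.gens = nextGens (L :: r) from rfl, hc, List.map_cons,
      List.prod_cons])
  obtain ⟨⟨i, k⟩, e⟩ := hbij.2 ⟨g, hg⟩
  exact ⟨_, List.getElem_mem i.isLt, k.1, k.2, (congrArg Subtype.val e).symm⟩

end split

/-- The generators of class `1` of the chain. -/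
noncomputable def g1 (k : ℕ) : Kb := eb (lp (gw 1 k))

/-- Words fixing `0` and a base point. -/
def fixData : List (ℕ × List (List ℕ)) :=
  [(3, [[2, 1, 3, 0, 2]]),
   (36, [[2, 2, 2], [3, 1, 3, 0, 2, 1, 2, 0]]),
   (42, [[2, 2, 1, 2, 0, 2, 2]]),
   (82, [[1, 3, 0, 3, 1, 3, 0, 3], [1, 2, 0, 1, 2, 0, 1, 2, 0], [1, 2, 0, 2, 2, 1, 2, 0, 2, 2, 2]]),
   (91, [[2, 2, 2], [1, 3, 0, 3, 3, 1, 3, 0], [3, 1, 2, 0, 2, 2, 2, 1, 2, 0, 2]]),
   (7, [[1, 2, 0, 3, 3]])]

/-- They fix those. -/
def fixDataOK : Bool :=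
  fixData.all fun d => Nat.blt d.1 1408 && d.2.all fun w =>
    topCfg.okW w && StabCert.ev 11 HNPresented.tab w 0 == 0 && StabCert.ev 11 HNPresented.tab w d.1 == d.1

theorem fixData_ok : fixDataOK = true := by decide +kernel

/-- A possible image of a base point. -/
def allow (aw : List ℕ) (b q : ℕ) : Bool :=
  fixData.all fun d => d.1 != b || d.2.all fun w => StabCert.ev 11 HNPresented.tab (winv aw ++ w ++ aw) q == q

/-- The descent along the chain. -/
def descend (aw : List ℕ) (leaf : List ℕ → Bool) : List Lev → List ℕ → Bool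
  | [], pre => leaf pre
  | L :: r, pre => L.words.all fun l =>
      !allow aw L.b (StabCert.ev 11 (chTabs.getD 1 []) (pre ++ l) L.b) || descend aw leaf r (pre ++ l)

theorem allow_of {aw : List ℕ} (haw : topCfg.okW aw = true) {u : Kb}
    (h : ∀ g : Kb, g • pt 0 = pt 0 → u * g = (eb aw)⁻¹ * g * eb aw * u) (b : ℕ) :
    allow aw b (u • pt b).val = true := by
  have hd := fixData_ok
  simp only [fixDataOK, List.all_eq_true, Bool.and_eq_true, Nat.blt_eq, beq_iff_eq] at hd
  simp only [allow, List.all_eq_true, Bool.or_eq_true, bne_iff_ne, beq_iff_eq]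
  intro d hdm
  by_cases hb : d.1 = b
  swap
  · exact Or.inl hb
  right
  intro w hw
  obtain ⟨hb', hws⟩ := hd d hdm
  obtain ⟨⟨hok, h0⟩, hbw⟩ := hws w hw
  have e0 : eb w • pt 0 = pt 0 := by rw [eb_smul hok (show 0 < 1408 by omega), h0]
  have eb' : eb w • pt b = pt b := by rw [← hb, eb_smul hok hb', hbw]
  have e := congrArg (fun g : Kb => g • pt b) (h _ e0)
  simp only [mul_smul, eb'] at e
  have hwok := okW_append (okW_append (okW_winv haw) hok) haw
  have e2 := eb_smul hwok (u • pt b).isLt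
  rw [pt_val, eb_append, eb_append, eb_winv, mul_smul, mul_smul, ← e] at e2
  have e3 := congrArg Fin.val e2
  rw [val_pt (ev_lt hwok (u • pt b).isLt)] at e3
  exact e3.symm

theorem g1_sound : TablesSound Kb.subtype g1 pt 11 1408 (chWords.getD 1 []).length (chTabs.getD 1 []) := by
  have h := chains_ok le_rfl (show 1 < 9 by omega)
  simp only [chainsOK, Bool.and_eq_true, List.all_eq_true, List.mem_range, beq_iff_eq] at h
  intro k hk p hp
  rw [(h.1.1 k hk).2 p hp]
  exact rho_word (okW_spec (lexp_okW (h.1.1 k hk).1)) hp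

theorem g1_chain : chainOK 11 1408 (chWords.getD 1 []).length (chTabs.getD 1 []) basePts (chLevs.getD 1 []) = true := by
  have h := chains_ok le_rfl (show 1 < 9 by omega)
  simp only [chainsOK, Bool.and_eq_true] at h
  exact h.1.2

theorem basePts_lt : ∀ β ∈ basePts, β < 1408 := by decide

theorem g1_top : sub g1 (nextGens (chLevs.getD 1 [])) = cls 1 := by
  have h := chains_ok le_rfl (show 1 < 9 by omega)
  simp only [chainsOK, Bool.and_eq_true, List.all_eq_true, List.mem_range, beq_iff_eq] at h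
  obtain ⟨hlt, hcard, -⟩ := chain_spec g1_sound pt_injOn basePts_lt (fun g _ hg => eq_of_smul_base hg) _ g1_chain
  refine Subgroup.eq_of_le_of_card_ge ((Subgroup.closure_le _).2 ?_) ?_
  · rintro _ ⟨k, hk, rfl⟩
    exact lexp_mem (h.1.1 k (hlt k hk)).1
  · rw [natCard_cls_pos le_rfl (by omega), hcard, clsOrd]

theorem descend_spec {aw : List ℕ} (haw : topCfg.okW aw = true) {u : Kb}
    (h : ∀ g : Kb, g • pt 0 = pt 0 → u * g = (eb aw)⁻¹ * g * eb aw * u) {leaf : List ℕ → Bool} :
    ∀ (ch : List Lev) (pre : List ℕ),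
      chainOK 11 1408 (chWords.getD 1 []).length (chTabs.getD 1 []) basePts ch = true →
      descend aw leaf ch pre = true → (∀ k ∈ pre, k < (chWords.getD 1 []).length) →
      (∃ k ∈ sub g1 (nextGens ch), u = StabCert.wordEl g1 pre * k) →
      ∃ pre', (∀ k ∈ pre', k < (chWords.getD 1 []).length) ∧ leaf pre' = true ∧ u = StabCert.wordEl g1 pre'
  | [], pre, _, hd, hp, ⟨k, hk, e⟩ => by
    have : k = 1 := by simpa [sub, nextGens] using hk
    exact ⟨pre, hp, hd, by rw [e, this, mul_one]⟩
  | L :: r, pre, hch, hd, hp, ⟨k, hk, e⟩ => by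
    obtain ⟨hlt, hb, hfix, hsplit⟩ :=
      chain_split g1_sound pt_injOn basePts_lt (fun g _ hg => eq_of_smul_base hg) hch
    obtain ⟨l, hl, k', hk', rfl⟩ := hsplit k hk
    have hp' : ∀ a ∈ pre ++ l, a < (chWords.getD 1 []).length := fun a ha =>
      (List.mem_append.1 ha).elim (hp a) (hlt l hl a)
    have e' : u = StabCert.wordEl g1 (pre ++ l) * k' := by rw [e, StabCert.wordEl_append, mul_assoc]
    have hub : (u • pt L.b).val = StabCert.ev 11 (chTabs.getD 1 []) (pre ++ l) L.b := by
      obtain ⟨h1, h2⟩ := StabCert.ev_spec g1_sound _ hp' _ hb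
      rw [e', mul_smul]
      have h3 : k' • pt L.b = pt L.b := hfix k' hk'
      rw [h3]
      exact (congrArg Fin.val h2).trans (val_pt h1)
    simp only [chainOK, Bool.and_eq_true] at hch
    simp only [descend, List.all_eq_true, Bool.or_eq_true, Bool.not_eq_true'] at hd
    refine descend_spec haw h r _ hch.2 ((hd l hl).resolve_left ?_) hp' ⟨k', hk', e'⟩
    rw [← hub, allow_of haw h]
    simp

theorem descend0 : descend [] (fun pre => basePts.all fun b =>
    StabCert.ev 11 (chTabs.getD 1 []) pre b == b) (chLevs.getD 1 []) [] = true := by decide +kernel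

theorem descend1 : descend [0] (fun _ => false) (chLevs.getD 1 []) [] = true := by decide +kernel

theorem start {u : Kb} (hu : u ∈ cls 1) :
    ∃ k ∈ sub g1 (nextGens (chLevs.getD 1 [])), u = StabCert.wordEl g1 [] * k :=
  ⟨u, g1_top ▸ hu, by simp [StabCert.wordEl]⟩

/-- Class `1` has trivial centre. -/
theorem no_comm {u : Kb} (hu : u ∈ cls 1) (h : ∀ g : Kb, g • pt 0 = pt 0 → u * g = g * u) : u = 1 := by
  obtain ⟨pre, hp, hl, rfl⟩ := descend_spec (aw := []) rfl (fun g hg => by rw [eb_nil]; simpa using h g hg)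
    _ [] g1_chain descend0 (by simp) (start hu)
  simp only [List.all_eq_true, beq_iff_eq] at hl
  refine eq_of_smul_base fun b hb => ?_
  have := (StabCert.ev_spec g1_sound _ hp _ (basePts_lt b hb)).2
  rw [hl b hb] at this
  exact this

/-- No element of class `1` acts on it as the conjugation by `x`. -/
theorem no_twist {u : Kb} (hu : u ∈ cls 1) :
    ¬ ∀ g : Kb, g • pt 0 = pt 0 → u * g = (eb [0])⁻¹ * g * eb [0] * u := fun h => by
  obtain ⟨pre, -, hl, -⟩ := descend_spec (aw := [0]) rfl h _ [] g1_chain descend1 (by simp) (start hu)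
  simp at hl

end Cfsg.Agent.HNAuto
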