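import Cfsg.Agent.Lib.HNAuto.WordData
import Cfsg.Agent.Lib.HNAuto.Descend

/-!
# Searching the image of `K` by labels of pairs of points

* `lab`, `lab_smul` : an invariant of pairs of points
* `search`, `search_spec` : elements with prescribed conjugation action, found along the chain
-/

set_option autoImplicit false
set_option maxRecDepth 100000
set_option Elab.async false

open Cfsg

namespace Cfsg.Agent.HNAuto

open Cfsg.Agent.HNPresented Cfsg.Agent.StabCert

local notation "evT" => StabCert.ev 11 HNPresented.tab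

/-- Decodes a word. -/
def decW : ℕ → ℕ → List ℕ
  | 0, _ => []
  | n + 1, c => if c == 0 then [] else (c % 8 - 1) :: decW n (c / 8)

/-- A word moving `0` to a point. -/
def wordAt (a : ℕ) : List ℕ := decW 16 (look 48 wordTab a)

/-- The words do that. -/
def wordsOK : Bool :=
  (List.range 1408).all fun a => topCfg.okW (wordAt a) && evT (wordAt a) 0 == a

theorem words_ok : wordsOK = true := by decide +kernel

theorem wordAt_spec {a : ℕ} (ha : a < 1408) :
    topCfg.okW (wordAt a) = true ∧ eb (wordAt a) • pt 0 = pt a := by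
  have h := words_ok
  simp only [wordsOK, List.all_eq_true, List.mem_range, Bool.and_eq_true, beq_iff_eq] at h
  refine ⟨(h a ha).1, ?_⟩
  rw [eb_smul (h a ha).1 (show 0 < 1408 by omega), (h a ha).2]

/-- The label of a pair. -/
def lab (a c : ℕ) : ℕ := own 1 (evT (winv (wordAt a)) c)

theorem lab_eq {a c : ℕ} (ha : a < 1408) (hc : c < 1408) :
    lab a c = own 1 ((eb (wordAt a))⁻¹ • pt c).val := by
  rw [← eb_winv, eb_smul (okW_winv (wordAt_spec ha).1) hc, val_pt (ev_lt (okW_winv (wordAt_spec ha).1) hc)]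
  rfl

/-- The label is invariant. -/
theorem lab_smul (g : Kb) {a c : ℕ} (ha : a < 1408) (hc : c < 1408) :
    lab (g • pt a).val (g • pt c).val = lab a c := by
  rw [lab_eq (g • pt a).isLt (g • pt c).isLt, lab_eq ha hc, pt_val]
  have h0 : ((eb (wordAt (g • pt a).val))⁻¹ * g * eb (wordAt a)) ∈ cls 1 := by
    rw [mem_cls_one, mul_smul, mul_smul, (wordAt_spec ha).2, inv_smul_eq_iff, (wordAt_spec (g • pt a).isLt).2,
      pt_val]
  have := own_smul (show 1 < 9 by omega) h0 ((eb (wordAt a))⁻¹ • pt c)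
  rwa [mul_smul, mul_smul, smul_inv_smul] at this

/-- The iterates of a pair of words on a pair of points. -/
def iter (g h : List ℕ) : ℕ → ℕ × ℕ → List (ℕ × ℕ)
  | 0, _ => []
  | n + 1, x => x :: iter g h n (evT g x.1, evT h x.2)

/-- The pairs following from one pair. -/
def spread : List (List ℕ × List ℕ × ℕ) → List (ℕ × ℕ) → List (ℕ × ℕ)
  | [], r => r
  | (g, h, n) :: G, r => spread G (r.flatMap (iter g h n))

/-- The labels fit. -/
def fitsAt (b q : ℕ) (r : List (ℕ × ℕ)) : Bool := r.all fun x => lab b x.1 == lab q x.2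

/-- The element of a point and a word of the chain. -/
def evU (q : ℕ) (pre : List ℕ) (b : ℕ) : ℕ :=
  evT (wordAt q) (StabCert.ev 11 (chTabs.getD 1 []) pre b)

/-- The word of a point and a word of the chain. -/
def wordU (q : ℕ) (pre : List ℕ) : List ℕ := wordAt q ++ pre.flatMap fun k => lp (gw 1 k)

/-- The search along the chain. -/
def go (G : List (List ℕ × List ℕ × ℕ)) (q : ℕ) (leaf : List ℕ → Bool) :
    List Lev → List ℕ → List (ℕ × ℕ) → Bool
  | [], pre, _ => leaf (wordU q pre)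
  | L :: r, pre, acc => L.words.all fun l =>
      let new := spread G [(L.b, evU q (pre ++ l) L.b)]
      !fitsAt L.b (evU q (pre ++ l) L.b) (acc ++ new) || go G q leaf r (pre ++ l) (acc ++ new)

/-- The search from the images of `0`. -/
def search (G : List (List ℕ × List ℕ × ℕ)) (qs : List ℕ) (leaf : List ℕ → Bool) : Bool :=
  (G.all fun x => topCfg.okW x.1 && topCfg.okW x.2.1) && qs.all fun q =>
    let new := spread G [(0, q)]
    !fitsAt 0 q new || go G q leaf (chLevs.getD 1 []) [] new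

theorem iter_spec {u : Kb} {g h : List ℕ} (hg : topCfg.okW g = true) (hh : topCfg.okW h = true)
    (e : u * eb g = eb h * u) : ∀ (n : ℕ) (x : ℕ × ℕ), x.1 < 1408 → x.2 < 1408 → u • pt x.1 = pt x.2 →
      ∀ y ∈ iter g h n x, y.1 < 1408 ∧ y.2 < 1408 ∧ u • pt y.1 = pt y.2
  | 0, _, _, _, _, y, hy => by simp [iter] at hy
  | n + 1, x, h1, h2, hx, y, hy => by
    rcases List.mem_cons.1 hy with rfl | hy
    · exact ⟨h1, h2, hx⟩
    · refine iter_spec hg hh e n _ (ev_lt hg h1) (ev_lt hh h2) ?_ y hy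
      rw [← eb_smul hg h1, ← mul_smul, e, mul_smul, hx, eb_smul hh h2]

theorem spread_spec {u : Kb} : ∀ (G : List (List ℕ × List ℕ × ℕ)) (r : List (ℕ × ℕ)),
    (∀ x ∈ G, topCfg.okW x.1 = true ∧ topCfg.okW x.2.1 = true ∧ u * eb x.1 = eb x.2.1 * u) →
    (∀ y ∈ r, y.1 < 1408 ∧ y.2 < 1408 ∧ u • pt y.1 = pt y.2) →
    ∀ y ∈ spread G r, y.1 < 1408 ∧ y.2 < 1408 ∧ u • pt y.1 = pt y.2
  | [], _, _, hr => hr
  | (g, h, n) :: G, r, hG, hr => by
    refine spread_spec G _ (fun x hx => hG x (List.mem_cons_of_mem _ hx)) fun y hy => ?_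
    obtain ⟨x, hx, hy⟩ := List.mem_flatMap.1 hy
    obtain ⟨h1, h2, h3⟩ := hr x hx
    obtain ⟨hg, hh, he⟩ := hG _ List.mem_cons_self
    exact iter_spec hg hh he n x h1 h2 h3 y hy

theorem fits_of {u : Kb} {b q : ℕ} (hb : b < 1408) (hu : u • pt b = pt q) (hq : q < 1408)
    {r : List (ℕ × ℕ)} (hr : ∀ y ∈ r, y.1 < 1408 ∧ y.2 < 1408 ∧ u • pt y.1 = pt y.2) : fitsAt b q r = true := by
  simp only [fitsAt, List.all_eq_true, beq_iff_eq]
  intro y hy
  obtain ⟨h1, h2, h3⟩ := hr y hy
  rw [← lab_smul u hb h1, hu, h3, val_pt hq, val_pt h2]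

theorem wordU_spec {q : ℕ} (hq : q < 1408) : ∀ pre : List ℕ, (∀ k ∈ pre, k < (chWords.getD 1 []).length) →
    topCfg.okW (wordU q pre) = true ∧ eb (wordU q pre) = eb (wordAt q) * StabCert.wordEl g1 pre := by
  have h := chains_ok le_rfl (show 1 < 9 by omega)
  simp only [chainsOK, Bool.and_eq_true, List.all_eq_true, List.mem_range, beq_iff_eq] at h
  have key : ∀ pre : List ℕ, (∀ k ∈ pre, k < (chWords.getD 1 []).length) →
      topCfg.okW (pre.flatMap fun k => lp (gw 1 k)) = true ∧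
        eb (pre.flatMap fun k => lp (gw 1 k)) = StabCert.wordEl g1 pre := by
    intro pre
    induction pre with
    | nil => exact fun _ => ⟨rfl, eb_nil⟩
    | cons k l ih =>
      intro hp
      obtain ⟨i1, i2⟩ := ih fun a ha => hp a (List.mem_cons_of_mem _ ha)
      rw [List.flatMap_cons]
      refine ⟨okW_append (lexp_okW (h.1.1 k (hp k List.mem_cons_self)).1) i1, ?_⟩
      rw [eb_append, i2]
      simp [StabCert.wordEl, g1]
  intro pre hp
  exact ⟨okW_append (wordAt_spec hq).1 (key pre hp).1, by rw [wordU, eb_append, (key pre hp).2]⟩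

theorem go_spec {u : Kb} {G : List (List ℕ × List ℕ × ℕ)}
    (hG : ∀ x ∈ G, topCfg.okW x.1 = true ∧ topCfg.okW x.2.1 = true ∧ u * eb x.1 = eb x.2.1 * u)
    {q : ℕ} (hq : q < 1408) {leaf : List ℕ → Bool} :
    ∀ (ch : List Lev) (pre : List ℕ) (acc : List (ℕ × ℕ)),
      chainOK 11 1408 (chWords.getD 1 []).length (chTabs.getD 1 []) basePts ch = true →
      go G q leaf ch pre acc = true → (∀ k ∈ pre, k < (chWords.getD 1 []).length) →
      (∀ y ∈ acc, y.1 < 1408 ∧ y.2 < 1408 ∧ u • pt y.1 = pt y.2) →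
      (∃ k ∈ sub g1 (nextGens ch), u = eb (wordAt q) * StabCert.wordEl g1 pre * k) →
      ∃ v, topCfg.okW v = true ∧ leaf v = true ∧ u = eb v
  | [], pre, _, _, hd, hp, _, ⟨k, hk, e⟩ => by
    have hk1 : k = 1 := by simpa [sub, nextGens] using hk
    obtain ⟨h1, h2⟩ := wordU_spec hq pre hp
    exact ⟨_, h1, hd, by rw [h2, e, hk1, mul_one]⟩
  | L :: r, pre, acc, hch, hd, hp, hacc, ⟨k, hk, e⟩ => by
    obtain ⟨hlt, hb, hfix, hsplit⟩ :=
      chain_split g1_sound pt_injOn basePts_lt (fun g _ hg => eq_of_smul_base hg) hch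
    obtain ⟨l, hl, k', hk', rfl⟩ := hsplit k hk
    have hp' : ∀ a ∈ pre ++ l, a < (chWords.getD 1 []).length := fun a ha =>
      (List.mem_append.1 ha).elim (hp a) (hlt l hl a)
    have e' : u = eb (wordAt q) * StabCert.wordEl g1 (pre ++ l) * k' := by
      rw [e, StabCert.wordEl_append]; simp only [mul_assoc]
    obtain ⟨h1, h2⟩ := StabCert.ev_spec g1_sound _ hp' _ hb
    have hub : u • pt L.b = pt (evU q (pre ++ l) L.b) := by
      have h3 : k' • pt L.b = pt L.b := hfix k' hk'
      have h4 : StabCert.wordEl g1 (pre ++ l) • pt L.b = pt (StabCert.ev 11 (chTabs.getD 1 []) (pre ++ l) L.b) := h2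
      rw [e', mul_smul, h3, mul_smul, h4]
      exact eb_smul (wordAt_spec hq).1 h1
    have hlt' : evU q (pre ++ l) L.b < 1408 := ev_lt (wordAt_spec hq).1 h1
    have hnew : ∀ y ∈ acc ++ spread G [(L.b, evU q (pre ++ l) L.b)],
        y.1 < 1408 ∧ y.2 < 1408 ∧ u • pt y.1 = pt y.2 := fun y hy =>
      (List.mem_append.1 hy).elim (hacc y) (spread_spec G _ hG (by simpa using ⟨hb, hlt', hub⟩) y)
    simp only [chainOK, Bool.and_eq_true] at hch
    simp only [go, List.all_eq_true, Bool.or_eq_true, Bool.not_eq_true'] at hd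
    refine go_spec hG hq r _ _ hch.2 ((hd l hl).resolve_left ?_) hp' hnew ⟨k', hk', e'⟩
    rw [fits_of hb hub hlt' hnew]
    simp

/-- The elements with the prescribed action are among the leaves. -/
theorem search_spec {G : List (List ℕ × List ℕ × ℕ)} {qs : List ℕ} {leaf : List ℕ → Bool}
    (h : search G qs leaf = true) {u : Kb} (hu : ∀ x ∈ G, u * eb x.1 = eb x.2.1 * u)
    (hq : (u • pt 0).val ∈ qs) : ∃ v, topCfg.okW v = true ∧ leaf v = true ∧ u = eb v := by
  simp only [search, Bool.and_eq_true, List.all_eq_true, Bool.or_eq_true, Bool.not_eq_true'] at h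
  set q := (u • pt 0).val
  have hG : ∀ x ∈ G, topCfg.okW x.1 = true ∧ topCfg.okW x.2.1 = true ∧ u * eb x.1 = eb x.2.1 * u :=
    fun x hx => ⟨(h.1 x hx).1, (h.1 x hx).2, hu x hx⟩
  have hlt : q < 1408 := (u • pt 0).isLt
  have hu0 : u • pt 0 = pt q := (pt_val _).symm
  have hnew := spread_spec G [(0, q)] hG (by simpa using ⟨hlt, hu0⟩)
  have hgo := (h.2 q hq).resolve_left (by rw [fits_of (show 0 < 1408 by omega) hu0 hlt hnew]; simp)
  refine go_spec hG hlt _ [] _ g1_chain hgo (by simp) hnew ⟨(eb (wordAt q))⁻¹ * u, ?_, ?_⟩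
  · rw [g1_top, mem_cls_one, mul_smul, inv_smul_eq_iff, (wordAt_spec hlt).2, hu0]
  · simp [StabCert.wordEl]

/-- The words differ on the base. -/
def neq (v w : List ℕ) : Bool := basePts.any fun b => evT v b != evT w b

theorem neq_spec {v w : List ℕ} (hv : topCfg.okW v = true) (hw : topCfg.okW w = true) (h : neq v w = true) :
    eb v ≠ eb w := fun e => by
  simp only [neq, List.any_eq_true, bne_iff_ne] at h
  obtain ⟨b, hb, hne⟩ := h
  have e' := congrArg (fun g : Kb => g • pt b) e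
  simp only [eb_smul hv (basePts_lt b hb), eb_smul hw (basePts_lt b hb)] at e'
  exact hne (pt_injOn (ev_lt hv (basePts_lt b hb)) (ev_lt hw (basePts_lt b hb)) e')

end Cfsg.Agent.HNAuto
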