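import Cfsg.Agent.Lib.HNAuto.Pins
import Cfsg.Prelude.Def_KGroupFacts

/-!
# The outer automorphism group of HN

* `natCard_out_hn` : it has order 2, given the order of `⟨x, y, z⟩`
-/

set_option autoImplicit false
set_option maxRecDepth 100000
set_option Elab.async false

open Cfsg

namespace Cfsg.Agent.HNAuto

open Cfsg.Agent.HNPresented Cfsg.Agent.StabCert

noncomputable section

local notation "X" => toHN kx
local notation "Y" => toHN ky
local notation "Z" => toHN kz
local notation "C" => (toHN kx) ^ 2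

/-- The element in the tenth relation. -/
theorem he_wW : he wW = Y * X * Y * X * Y ^ 2 * X * Y⁻¹ := by
  simp [he, wW, StabCert.wordEl, el, pow_two, mul_assoc]

theorem z_conj_wW : Z * he wW = he wW * Z * C := by
  have hz : Z⁻¹ = Z := inv_eq_of_mul_eq_one_right z_sq
  have h : Z⁻¹ * (he wW)⁻¹ * Z * he wW * C⁻¹ = 1 := by
    have h' := rel3
      (r := (gz⁻¹ * (gy * gx * gy * gx * (gy ^ 2) * gx * (gy⁻¹))⁻¹ * gz *
        (gy * gx * gy * gx * (gy ^ 2) * gx * (gy⁻¹))) * ((gx ^ 2)⁻¹)) (by simp [rels3])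
    simp only [map_mul, map_pow, map_inv, FreeGroup.lift_apply_of] at h'
    rw [he_wW]
    exact h'
  have e := mul_inv_eq_one.1 h
  calc Z * he wW = he wW * Z * (Z⁻¹ * (he wW)⁻¹ * Z * he wW) := by group
    _ = he wW * Z * C := by rw [e]

/-- The image of `z`, once `x` and `y` are fixed. -/
theorem map_z (hK : Faith) {β : MulAut Spor.HN} (hX : β X = X) (hY : β Y = Y) : β Z = Z ∨ β Z = Z * C := by
  have h4 := x_pow_four hK
  have hC : β C = C := by rw [map_pow, hX]
  have hW : β (he wW) = he wW := by rw [he_wW]; simp only [map_mul, map_pow, map_inv, hX, hY]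
  set w := β Z with hw
  have hw2 : w * w = 1 := by rw [hw, ← map_mul, z_sq, map_one]
  have hwx : w * X * w = X⁻¹ := by
    have e := congrArg β z_x_z
    rwa [map_mul, map_mul, map_inv, hX] at e
  have hwW : w * he wW = he wW * w * C := by
    have e := congrArg β z_conj_wW
    rwa [map_mul, map_mul, map_mul, hW, hC] at e
  have huX : Z * w * X = X * (Z * w) := by
    have e1 : w * X = X⁻¹ * w := by rw [← hwx, mul_assoc, hw2, mul_one]
    have e2 : Z * X⁻¹ = X * Z := by
      rw [← z_x_z, ← mul_assoc, ← mul_assoc, z_sq, one_mul]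
    calc Z * w * X = Z * (w * X) := mul_assoc _ _ _
      _ = Z * X⁻¹ * w := by rw [e1, mul_assoc]
      _ = X * (Z * w) := by rw [e2, mul_assoc]
  have huW : Z * w * he wW = he wW * (Z * w) := by
    have hc := c_central hK (g := w) ((map_hnH hK hC).2 ⟨kz, rfl⟩)
    calc Z * w * he wW = Z * (he wW * w * C) := by rw [mul_assoc, hwW]
      _ = (Z * he wW) * (w * C) := by simp only [mul_assoc]
      _ = he wW * Z * (C * w) * C := by rw [z_conj_wW]; simp only [mul_assoc]
      _ = he wW * Z * w * (C * C) := by rw [hc]; simp only [mul_assoc]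
      _ = _ := by rw [c_sq h4, mul_one, mul_assoc]
  obtain ⟨v, hv, hev⟩ := exists_he hK
    (mul_mem (show Z ∈ hnH from ⟨kz, rfl⟩) ((map_hnH hK hC).2 ⟨kz, rfl⟩))
  have h1 : he (v ++ [0]) = he ([0] ++ v) := by rw [he_append, he_append, he_x, ← hev]; exact huX
  have h2 : he (v ++ wW) = he (wW ++ v) := by rw [he_append, he_append, ← hev]; exact huW
  obtain ⟨v', hv', hl, e'⟩ := search_spec search_XW (u := eb v) (fun x hx => by
    simp only [List.mem_cons, List.not_mem_nil, or_false] at hx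
    rcases hx with rfl | rfl
    · rw [← eb_append, ← eb_append]; exact eb_of_he h2
    · rw [← eb_append, ← eb_append]; exact eb_of_he h1) (List.mem_range.2 (eb v • pt 0).isLt)
  have hvv : he v = he v' := toHN_eq hK (show rb _ = rb _ from e')
  simp only [Bool.or_eq_true] at hl
  rcases hl with ((hl | hl) | hl) | hl
  · refine absurd ?_ (neq_he (okW_append hv' (by decide)) (okW_append (by decide) hv') hl)
    rw [he_append, he_append, ← hvv, ← he_append, ← he_append, h1]
  · refine absurd ?_ (neq_he (okW_append hv' (by decide)) (okW_append (by decide) hv') hl)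
    rw [he_append, he_append, ← hvv, ← he_append, ← he_append, h2]
  · left
    have e : Z * w = 1 := by rw [hev, hvv, he_eq hK hl, he_nil]
    calc w = Z * Z * w := by rw [z_sq, one_mul]
      _ = Z := by rw [mul_assoc, e, mul_one]
  · right
    have e : Z * w = C := by rw [hev, hvv, he_eq hK hl, he_c]
    calc w = Z * Z * w := by rw [z_sq, one_mul]
      _ = Z * C := by rw [mul_assoc, e]

/-- An automorphism fixing `x`, `y`, `z` and keeping `⟨t⟩` is trivial or conjugation by `x²`. -/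
theorem eq_one_or_conj_c (hK : Faith) {θ : MulAut Spor.HN} (h : Fixes θ) (hX : θ X = X) (hY : θ Y = Y)
    (hZ : θ Z = Z) : θ = 1 ∨ θ = MulAut.conj C := by
  have h4 := x_pow_four hK
  obtain ⟨i, hi⟩ := h.tt
  have h5 := Fixes.tt_unit hi
  have ht5 : tt ^ (5 : ℤ) = 1 := by exact_mod_cast tt_pow_five
  have hmod : tt ^ i = tt ^ (i % 5).toNat := by
    rw [← zpow_natCast, Int.toNat_of_nonneg (Int.emod_nonneg i (by norm_num))]
    conv_lhs => rw [← Int.emod_add_mul_ediv i 5, zpow_add, zpow_mul, ht5, one_zpow, mul_one]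
  have hrel : Z * tt ^ i * (Z * tt ^ i) * (Z * tt ^ i) = 1 := by
    have e := congrArg θ zt_cube
    rwa [map_mul, map_mul, map_mul, hZ, hi, map_one] at e
  have hzinv : Z⁻¹ = Z := inv_eq_of_mul_eq_one_right z_sq
  have hext : ∀ ψ : MulAut Spor.HN, θ X = ψ X → θ Y = ψ Y → θ Z = ψ Z → θ tt = ψ tt → θ = ψ := fun ψ a b c d =>
    MulEquiv.ext fun e => DFunLike.congr_fun
      (hn_hom_ext (f := θ.toMonoidHom) (g := ψ.toMonoidHom) a b c d) e
  -- the case `i = ±2` is impossible
  have hbad : Z * tt ^ 2 * (Z * tt ^ 2) * (Z * tt ^ 2) ≠ 1 := by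
    intro e
    have hinv : Z * (tt ^ 2)⁻¹ * (Z * (tt ^ 2)⁻¹) * (Z * (tt ^ 2)⁻¹) = 1 := by
      calc _ = Z * (Z * tt ^ 2 * (Z * tt ^ 2) * (Z * tt ^ 2))⁻¹ * Z := by
            simp only [mul_inv_rev, hzinv, mul_assoc, z_sq, mul_one]
        _ = 1 := by rw [e, inv_one, mul_one, z_sq]
    have e1 : Z * tt ^ 2 * Z = (tt ^ 2)⁻¹ * Z * (tt ^ 2)⁻¹ := by
      calc Z * tt ^ 2 * Z = (tt ^ 2)⁻¹ * Z⁻¹ *
            (Z * tt ^ 2 * (Z * tt ^ 2) * (Z * tt ^ 2)) * (tt ^ 2)⁻¹ := by group
        _ = _ := by rw [e, mul_one, hzinv]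
    have hw := word_eq_center h4
    have hm4 : (tt ^ 2)⁻¹ * (tt ^ 2)⁻¹ = tt := by
      calc (tt ^ 2)⁻¹ * (tt ^ 2)⁻¹ = (tt ^ 5)⁻¹ * tt := by group
        _ = tt := by rw [tt_pow_five, inv_one, one_mul]
    have e2 : Z * tt * Z * tt = C := by
      calc Z * tt * Z * tt = Z * ((tt ^ 2)⁻¹ * (tt ^ 2)⁻¹) * Z * ((tt ^ 2)⁻¹ * (tt ^ 2)⁻¹) := by rw [hm4]
        _ = Z * (tt ^ 2)⁻¹ * ((tt ^ 2)⁻¹ * Z * (tt ^ 2)⁻¹) * (tt ^ 2)⁻¹ := by group
        _ = Z * (tt ^ 2)⁻¹ * (Z * tt ^ 2 * Z) * (tt ^ 2)⁻¹ := by rw [e1]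
        _ = C := by rw [← hw]; group
    have e3 : tt = Z * C⁻¹ := by
      have e4 : C * (Z * tt) = 1 := by rw [← e2, ← zt_cube]; group
      calc tt = Z⁻¹ * C⁻¹ * (C * (Z * tt)) := by group
        _ = Z * C⁻¹ := by rw [e4, mul_one, hzinv]
    exact tt_not_mem (e3 ▸ mul_mem ⟨kz, rfl⟩ (inv_mem (pow_mem (show X ∈ hnH from ⟨kx, rfl⟩) 2)))
  have hr : (i % 5).toNat < 5 := by omega
  have hr0 : (i % 5).toNat ≠ 0 := by omega
  rw [hmod] at hrel hi
  generalize (i % 5).toNat = r at hr hr0 hrel hi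
  interval_cases r
  · exact absurd rfl hr0
  · exact Or.inl (hext 1 hX hY hZ (by rw [hi, pow_one]; rfl))
  · exact absurd hrel hbad
  · exfalso
    refine hbad ?_
    have e : tt ^ 3 = (tt ^ 2)⁻¹ := eq_inv_of_mul_eq_one_left (by rw [← pow_add]; exact tt_pow_five)
    rw [e] at hrel
    calc Z * tt ^ 2 * (Z * tt ^ 2) * (Z * tt ^ 2)
        = Z * (Z * (tt ^ 2)⁻¹ * (Z * (tt ^ 2)⁻¹) * (Z * (tt ^ 2)⁻¹))⁻¹ * Z := by
          simp only [mul_inv_rev, inv_inv, hzinv, mul_assoc, z_sq, mul_one]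
      _ = 1 := by rw [hrel, inv_one, mul_one, z_sq]
  · refine Or.inr (hext _ ?_ ?_ ?_ ?_)
    · rw [hX]; show X = C * X * C⁻¹; rw [comm_x.eq, mul_inv_cancel_right]
    · rw [hY]; show Y = C * Y * C⁻¹; rw [(comm_y h4).eq, mul_inv_cancel_right]
    · rw [hZ]; show Z = C * Z * C⁻¹; rw [(comm_z h4).eq, mul_inv_cancel_right]
    · rw [hi]; show tt ^ 4 = C * tt * C⁻¹
      rw [c_inv h4, conj_x2 h4]
      exact eq_inv_of_mul_eq_one_left (by rw [← pow_succ]; exact tt_pow_five)

theorem twist_not_inner (hK : Faith) : twist (x_pow_four hK) ∉ Inn Spor.HN := by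
  rintro ⟨g, hg⟩
  have h4 := x_pow_four hK
  have hev : ∀ a, g * a * g⁻¹ = twistHom h4 a := fun a => by
    rw [← twist_apply, ← hg]; rfl
  have hx : g * X * g⁻¹ = X := (hev X).trans (twistHom_x h4)
  have hy : g * Y * g⁻¹ = Y := (hev Y).trans (twistHom_y h4)
  have hU : ∀ u ∈ hnU, g * u = u * g := by
    intro u hu
    obtain ⟨k, hk, rfl⟩ := hu
    have hgen : k ∈ (Subgroup.centralizer {g}).comap toHN := by
      refine (Subgroup.closure_le _).2 ?_ hk
      have hcx : Commute g X := mul_inv_eq_iff_eq_mul.1 hx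
      have hcy : Commute g Y := mul_inv_eq_iff_eq_mul.1 hy
      rintro a (rfl | rfl | rfl | rfl) <;>
        refine Subgroup.mem_centralizer_singleton_iff.2 (Commute.eq ?_) <;>
        try simp only [map_mul, map_inv, map_pow]
      exacts [hcy.symm, ((hcx.inv_right.mul_right hcy).mul_right hcx).symm,
        ((hcx.mul_right hcy).mul_right hcx.inv_right).symm, (hcx.pow_right 4).symm]
    exact (Subgroup.mem_centralizer_singleton_iff.1 hgen).symm
  obtain ⟨i, hi⟩ := cent_hnU hK hU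
  have hxC : X * C * X⁻¹ = C := by rw [← comm_x.eq, mul_inv_cancel_right]
  have hxt : X * tt ^ i * X⁻¹ = tt ^ (2 * i) := by
    rw [← conj_zpow, x_conj_tt, ← zpow_natCast, ← zpow_mul]; rfl
  have hti : tt ^ i = 1 := by
    have hgx : X * g * X⁻¹ = g := by
      rw [mul_inv_eq_iff_eq_mul]
      exact (mul_inv_eq_iff_eq_mul.1 hx).symm
    rcases hi with e | e
    · rw [e, hxt, two_mul, zpow_add] at hgx
      simpa using hgx
    · have e' : X * (tt ^ i * C) * X⁻¹ = tt ^ (2 * i) * C := by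
        rw [← hxt]
        calc X * (tt ^ i * C) * X⁻¹ = X * tt ^ i * X⁻¹ * (X * C * X⁻¹) := by group
          _ = _ := by rw [hxC]
      rw [e, e', two_mul, zpow_add] at hgx
      simpa using mul_right_cancel hgx
  have ht : g * tt * g⁻¹ = tt ^ 2 := (hev tt).trans (twistHom_t h4)
  rcases hi with e | e <;> rw [e, hti] at ht
  · rw [one_mul, inv_one, mul_one, pow_two] at ht
    exact tt_ne_one (right_eq_mul.1 ht)
  · rw [one_mul, c_inv h4, conj_x2 h4] at ht
    have e3 : tt ^ 3 = 1 := by rw [pow_succ, ← ht, inv_mul_cancel]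
    refine tt_ne_one ?_
    calc tt = (tt ^ 3) ^ 2 * (tt ^ 5)⁻¹ := by group
      _ = 1 := by rw [e3, tt_pow_five, one_pow, inv_one, mul_one]

/-- Every automorphism is inner or the twist, up to inner ones. -/
theorem cases_mod_inner (hK : Faith) (α : MulAut Spor.HN) :
    α ∈ Inn Spor.HN ∨ twist (x_pow_four hK) * α ∈ Inn Spor.HN := by
  obtain ⟨g, hf, hX, hY⟩ := exists_fix_xy hK α
  have h4 := x_pow_four hK
  set τ := twist (x_pow_four hK)
  rcases map_z hK hX hY with hZ | hZ
  · left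
    rcases eq_one_or_conj_c hK hf hX hY hZ with e | e
    · exact ⟨g⁻¹, by rw [map_inv, inv_eq_iff_mul_eq_one]; exact e⟩
    · exact ⟨g⁻¹ * C, by rw [map_mul, map_inv, ← e, inv_mul_cancel_left]⟩
  · right
    obtain ⟨i, hi⟩ := hf.tt
    have hθC : (τ * (MulAut.conj g * α)) C = C := by
      show twistHom h4 ((MulAut.conj g * α) C) = C
      rw [hf.c, map_pow, twistHom_x]
    have hθ : Fixes (τ * (MulAut.conj g * α)) := ⟨hθC, 2 * i, by
      show twistHom h4 ((MulAut.conj g * α) tt) = _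
      rw [hi, map_zpow, twistHom_t, ← zpow_natCast, ← zpow_mul]; rfl⟩
    have hθX : (τ * (MulAut.conj g * α)) X = X := by
      show twistHom h4 ((MulAut.conj g * α) X) = X
      rw [hX, twistHom_x]
    have hθY : (τ * (MulAut.conj g * α)) Y = Y := by
      show twistHom h4 ((MulAut.conj g * α) Y) = Y
      rw [hY, twistHom_y]
    have hθZ : (τ * (MulAut.conj g * α)) Z = Z := by
      show twistHom h4 ((MulAut.conj g * α) Z) = Z
      rw [hZ, map_mul, twistHom_z, map_pow, twistHom_x, mul_assoc, c_sq h4, mul_one]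
    have hmem : τ * (MulAut.conj g * α) ∈ Inn Spor.HN := by
      rcases eq_one_or_conj_c hK hθ hθX hθY hθZ with e | e
      · rw [e]; exact one_mem _
      · exact ⟨C, e.symm⟩
    have hconj : τ * MulAut.conj g * τ⁻¹ ∈ Inn Spor.HN := (innNormal Spor.HN).conj_mem _ ⟨g, rfl⟩ τ
    have := mul_mem (inv_mem hconj) hmem
    simpa [mul_assoc] using this

/-- The outer automorphism group of HN has order 2. -/
theorem natCard_out_hn (hH : Nat.card hnH = 177408000) : Nat.card (Out Spor.HN) = 2 := by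
  have hK := faith_of_card hH
  set τ := twist (x_pow_four hK)
  have hne : (QuotientGroup.mk (1 : MulAut Spor.HN) : Out Spor.HN) ≠ QuotientGroup.mk τ := fun e =>
    twist_not_inner hK (by simpa using QuotientGroup.eq.1 e)
  have hsq : τ * τ ∈ Inn Spor.HN := ⟨C, MulEquiv.ext fun a =>
    (DFunLike.congr_fun (twistHom_twistHom (x_pow_four hK)) a).symm⟩
  have huniv : (Set.univ : Set (Out Spor.HN)) = {QuotientGroup.mk 1, QuotientGroup.mk τ} := by
    refine Set.eq_univ_of_forall (fun q => ?_) |>.symm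
    obtain ⟨α, rfl⟩ := QuotientGroup.mk_surjective q
    rcases cases_mod_inner hK α with h | h
    · left
      refine QuotientGroup.eq.2 ?_
      simpa using inv_mem h
    · refine Or.inr (QuotientGroup.eq.2 ?_)
      have := mul_mem (inv_mem h) hsq
      simpa [τ, mul_assoc] using this
  rw [← Set.ncard_univ, huniv, Set.ncard_pair hne]

end

end Cfsg.Agent.HNAuto
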