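import Cfsg.Agent.Lib.HNAuto.CentC

/-!
# Pinning the automorphisms of HN

* `lift_*` : from equations on 1408 points to HN
* `natCard_hnU`, `exists_conj_zpowers` : the conjugation arguments
* `exists_fix_c`, `exists_fix_t`, `exists_fix_gens` : reduction of an automorphism
-/

set_option autoImplicit false
set_option maxRecDepth 100000
set_option Elab.async false

open Cfsg

namespace Cfsg.Agent.HNAuto

open Cfsg.Agent.HNPresented Cfsg.Agent.StabCert

noncomputable section

local notation "X" => toHN kx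
local notation "Y" => toHN ky
local notation "Z" => toHN kz
local notation "C" => (toHN kx) ^ 2

theorem exists_he (hK : Faith) {g : Spor.HN} (hg : g ∈ hnH) : ∃ v, topCfg.okW v = true ∧ g = he v := by
  obtain ⟨k, rfl⟩ := hg
  obtain ⟨v, hv, e⟩ := exists_eb (rb k)
  exact ⟨v, hv, toHN_eq hK e.symm⟩

theorem neq_he {v w : List ℕ} (hv : topCfg.okW v = true) (hw : topCfg.okW w = true) (h : neq v w = true) :
    he v ≠ he w := fun e => neq_spec hv hw h (eb_of_he e)

theorem he_mem_hnU {v : List ℕ} : he v ∈ hnU ↔ eb v • pt 0 = pt 0 := by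
  refine ⟨fun ⟨k, hk, e⟩ => ?_, fun h => ⟨_, mem_fixGroup_of_fix h, rfl⟩⟩
  rw [show eb v = rb k from (rb_eq e).symm]
  exact fixGroup_fix hk

theorem he_pow (v : List ℕ) : ∀ n, he (List.replicate n v).flatten = he v ^ n
  | 0 => by simp [he_nil]
  | n + 1 => by rw [List.replicate_succ, List.flatten_cons, he_append, he_pow v n, pow_succ']

theorem he_wpow : ∀ k, he (wpow k) = he wp ^ k
  | 0 => by simp [wpow, he_nil]
  | k + 1 => by rw [wpow, he_append, he_wpow k, pow_succ']

theorem rels (hK : Faith) :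
    X * he wp * X⁻¹ = (he wp)⁻¹ ∧ he wp ^ 7 = 1 ∧ he ws * he wp = he wp ^ 2 * he ws ∧
      he ws * X = X * he ws ∧ he ws ^ 3 = 1 ∧ he wh * X = X * he wh ∧ he wh * he ws = he ws * he wh ∧
      he wh * he wh = 1 ∧ he (yWord.flatMap yLetter) = Y ∧ he wp ≠ 1 ∧ he wh ≠ 1 ∧ he wP ≠ 1 := by
  have h := rels_ok
  simp only [relsOK, Bool.and_eq_true] at h
  obtain ⟨⟨⟨⟨⟨⟨⟨⟨⟨⟨⟨⟨h1, h2⟩, h3⟩, h4⟩, h5⟩, h6⟩, h7⟩, h8⟩, h9⟩, h10⟩, h11⟩, h12⟩, -⟩ := h
  refine ⟨?_, ?_, ?_, ?_, ?_, ?_, ?_, ?_, ?_, ?_, ?_, ?_⟩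
  · have e := he_eq hK h1
    rwa [he_append, he_append, he_x, he_x_inv, he_winv] at e
  · simpa [he_wpow, he_nil] using he_eq hK h2
  · simpa [he_append, he_wpow] using he_eq hK h3
  · have e := he_eq hK h4
    rwa [he_append, he_append, he_x] at e
  · simpa [he_append, he_nil, pow_succ, mul_assoc] using he_eq hK h5
  · have e := he_eq hK h6
    rwa [he_append, he_append, he_x] at e
  · simpa [he_append] using he_eq hK h7
  · simpa [he_append, he_nil] using he_eq hK h8
  · simpa [he_y] using he_eq hK h9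
  · simpa [he_nil] using neq_he (by decide +kernel) rfl h10
  · simpa [he_nil] using neq_he (by decide +kernel) rfl h11
  · simpa [he_nil] using neq_he (by decide +kernel) rfl h12

theorem gens_fix : ∀ v ∈ [wp, ws, wh], he v ∈ hnU := by
  have h := rels_ok
  simp only [relsOK, Bool.and_eq_true, List.all_eq_true, List.mem_range, beq_iff_eq] at h
  have key : ∀ v, StabCert.ev 11 HNPresented.tab v 0 = 0 → topCfg.okW v = true → he v ∈ hnU := fun v e hv =>
    he_mem_hnU.2 (by rw [eb_smul hv (show 0 < 1408 by omega), e])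
  intro v hv
  simp only [List.mem_cons, List.not_mem_nil, or_false] at hv
  rcases hv with rfl | rfl | rfl
  · exact key _ (h.2 0 (by omega)) (by decide +kernel)
  · exact key _ (h.2 1 (by omega)) (by decide +kernel)
  · exact key _ (h.2 2 (by omega)) (by decide +kernel)

theorem natCard_hnU (hK : Faith) : Nat.card hnU = 126000 := by
  have hex : ∀ g : cls 1, ∃ k ∈ fixGroup, rb k = (g : Kb) := fun g => mem_cls_one'.1 g.2
  choose k hk hk' using hex
  have hb : Function.Bijective fun g : cls 1 => (⟨toHN (k g), ⟨k g, hk g, rfl⟩⟩ : hnU) := by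
    refine ⟨fun a b e => Subtype.ext ?_, ?_⟩
    · rw [← hk' a, ← hk' b]; exact rb_eq (congrArg Subtype.val e)
    · rintro ⟨_, j, hj, rfl⟩
      exact ⟨⟨rb j, (mem_cls_one _).2 (fixGroup_fix hj)⟩, Subtype.ext (toHN_eq hK (hk' _))⟩
  rw [← Nat.card_congr (Equiv.ofBijective _ hb), natCard_cls_pos le_rfl (by omega)]
  decide +kernel

/-- Elements of order `p` are conjugate into each other's subgroups when `p ^ 2` does not divide the order. -/
theorem exists_conj_zpowers {G : Type*} [Group G] [Finite G] {p : ℕ} [Fact p.Prime]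
    (hdiv : ¬ p ^ 2 ∣ Nat.card G) {a b : G} (ha : orderOf a = p) (hb : orderOf b = p) :
    ∃ g : G, g * b * g⁻¹ ∈ Subgroup.zpowers a := by
  have key : ∀ {c : G}, orderOf c = p → ∃ Q : Sylow p G, (Q : Subgroup G) = Subgroup.zpowers c := by
    intro c hc
    have hp : IsPGroup p (Subgroup.zpowers c) := IsPGroup.of_card (n := 1) (by rw [Nat.card_zpowers, hc, pow_one])
    obtain ⟨Q, hQ⟩ := hp.exists_le_sylow
    obtain ⟨n, hn⟩ := IsPGroup.iff_card.1 Q.isPGroup'
    have hn1 : n ≤ 1 := by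
      by_contra h
      exact hdiv ((pow_dvd_pow p (show 2 ≤ n by omega)).trans (hn ▸ Subgroup.card_subgroup_dvd_card _))
    refine ⟨Q, (Subgroup.eq_of_le_of_card_ge hQ ?_).symm⟩
    rw [Nat.card_zpowers, hc, hn]
    exact (Nat.pow_le_pow_right (Fact.out : p.Prime).pos hn1).trans (pow_one p).le
  obtain ⟨Qa, hQa⟩ := key ha
  obtain ⟨Qb, hQb⟩ := key hb
  obtain ⟨g, hg⟩ := MulAction.exists_smul_eq G Qb Qa
  refine ⟨g, ?_⟩
  rw [← hQa, ← hg]
  exact Subgroup.smul_mem_pointwise_smul b (MulAut.conj g) _ (hQb ▸ Subgroup.mem_zpowers b)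

theorem natCard_HN (hK : Faith) (hH : Nat.card hnH = 177408000) : Nat.card Spor.HN = 1539000 * 177408000 := by
  have _ := hK
  rw [← Subgroup.card_mul_index hnH, hn_index, hH, mul_comm]

theorem natCard_hnH (hK : Faith) : Nat.card hnH = 177408000 := by
  have hex : ∀ c : Kb, ∃ k, rb k = c := rho.rangeRestrict_surjective
  choose k hk using hex
  have hb : Function.Bijective fun c : Kb => (⟨toHN (k c), k c, rfl⟩ : hnH) := by
    refine ⟨fun a b e => ?_, ?_⟩
    · rw [← hk a, ← hk b]; exact rb_eq (congrArg Subtype.val e)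
    · rintro ⟨_, j, rfl⟩
      exact ⟨rb j, Subtype.ext (toHN_eq hK (hk _))⟩
  rw [← Nat.card_congr (Equiv.ofBijective _ hb), natCard_Kb]

theorem finite_HN (hK : Faith) : Finite Spor.HN := Finite.of_injective phi (phi_injective hK)

theorem clsOrd11 : ((List.range 9).all fun i => i == 0 || !(clsOrd i % 11 == 0)) = true := by decide +kernel

theorem orderOf_P (hK : Faith) : orderOf (he wP) = 11 := by
  haveI := Fact.mk (show Nat.Prime 11 by norm_num)
  refine orderOf_eq_prime ?_ (rels hK).2.2.2.2.2.2.2.2.2.2.2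
  rw [← he_pow, he_eq hK (show topCfg.eqB (List.replicate 11 wP).flatten [] = true by decide +kernel), he_nil]

/-- After an inner automorphism, the involution is fixed. -/
theorem exists_fix_c (hK : Faith) (α : MulAut Spor.HN) : ∃ g : Spor.HN, (MulAut.conj g * α : MulAut Spor.HN) C = C := by
  haveI := finite_HN hK
  haveI := Fact.mk (show Nat.Prime 11 by norm_num)
  have hP := orderOf_P hK
  obtain ⟨g, hg⟩ := exists_conj_zpowers (p := 11)
    (by rw [natCard_HN hK (natCard_hnH hK)]; decide +kernel) hP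
    (show orderOf (α (he wP)) = 11 by rw [← hP]; exact orderOf_injective α.toMonoidHom α.injective _)
  refine ⟨g, ?_⟩
  set β := MulAut.conj g * α with hβ
  have hgP : β (he wP) ∈ Subgroup.zpowers (he wP) := hg
  have hz : Subgroup.zpowers (β (he wP)) = Subgroup.zpowers (he wP) :=
    Subgroup.eq_of_le_of_card_ge (Subgroup.zpowers_le.2 hgP) (by
      rw [Nat.card_zpowers, Nat.card_zpowers]
      exact (orderOf_injective β.toMonoidHom β.injective _).ge)
  obtain ⟨n, hn⟩ : he wP ∈ Subgroup.zpowers (β (he wP)) := hz ▸ Subgroup.mem_zpowers _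
  have hcomm : Commute (β C) (he wP) := by
    rw [← hn]
    refine Commute.zpow_right ?_ n
    show β C * β (he wP) = β (he wP) * β C
    rw [← map_mul, ← map_mul, c_central hK (he_mem wP)]
  have hfix : ∀ Q, phi (he wP) Q = Q → Q = b0 := by
    intro Q hQ
    obtain ⟨i, hi, c, rfl⟩ := exists_om Q
    rw [he, phi_smul, smul_om] at hQ
    have hmem : c⁻¹ * eb wP * c ∈ cls i := by
      have := (om_inj hi hi hQ.symm).2
      rwa [← mul_assoc] at this
    have hord : orderOf (⟨_, hmem⟩ : cls i) = 11 := by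
      rw [← Subgroup.orderOf_coe]
      refine orderOf_eq_prime ?_ ?_
      · have e : eb wP ^ 11 = 1 := by
          rw [← rb_wordEl, ← map_pow, ← map_one rb]
          refine rb_eq ?_
          rw [map_pow, map_one, ← hP]
          exact pow_orderOf_eq_one _
        have := conj_pow (i := 11) (a := c⁻¹) (b := eb wP)
        rw [inv_inv] at this
        rw [this, e, mul_one, inv_mul_cancel]
      · intro e
        have : eb wP = 1 := by simpa [mul_assoc, inv_mul_eq_one] using e
        refine (rels hK).2.2.2.2.2.2.2.2.2.2.2 ?_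
        exact hK _ this
    have hdvd : 11 ∣ Nat.card (cls i) := hord ▸ orderOf_dvd_natCard _
    rcases Nat.eq_zero_or_pos i with rfl | hpos
    · exact om_eq (by omega) (by rw [cls_zero]; trivial)
    · exfalso
      rw [natCard_cls_pos hpos hi] at hdvd
      have h := clsOrd11
      simp only [List.all_eq_true, List.mem_range, Bool.or_eq_true, beq_iff_eq, Bool.not_eq_true',
        beq_eq_false_iff_ne] at h
      exact (h i hi).resolve_left (by omega) (Nat.mod_eq_zero_of_dvd hdvd)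
  have hb : β C ∈ hnH := (mem_hnH_iff _).2 (hfix _ (by
    rw [← Equiv.Perm.mul_apply, ← map_mul, ← hcomm.eq, map_mul, Equiv.Perm.mul_apply, hnH_fix _ (he_mem wP)]))
  obtain ⟨v, hv, hbv⟩ := exists_he hK hb
  have h2 : he (v ++ v) = he [] := by
    rw [he_append, ← hbv, ← map_mul, c_sq (x_pow_four hK), map_one, he_nil]
  have h1 : he (v ++ wP) = he (wP ++ v) := by rw [he_append, he_append, ← hbv]; exact hcomm.eq
  obtain ⟨v', hv', hl, e⟩ := search_spec search_P (u := eb v) (fun x hx => by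
    rw [List.mem_singleton] at hx
    subst hx
    rw [← eb_append, ← eb_append]; exact eb_of_he h1) (List.mem_range.2 (eb v • pt 0).isLt)
  simp only [Bool.or_eq_true] at hl
  have hvv : he v = he v' := toHN_eq hK (show rb _ = rb _ from e)
  rcases hl with ((hl | hl) | hl) | hl
  · refine absurd ?_ (neq_he (okW_append hv' (by decide)) (okW_append (by decide) hv') hl)
    rw [he_append, he_append, ← hvv, ← he_append, ← he_append, h1]
  · refine absurd ?_ (neq_he (okW_append hv' hv') rfl hl)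
    rw [he_append, ← hvv, ← he_append, h2]
  · exfalso
    have h1' : β C = β 1 := by rw [map_one, hbv, hvv, he_eq hK hl, he_nil]
    have := β.injective h1'
    rw [← he_c, ← he_nil] at this
    exact neq_he (by decide) rfl (show neq [0, 0] [] = true by decide +kernel) this
  · rw [hbv, hvv, he_eq hK hl, he_c]

theorem map_hnH (hK : Faith) {β : MulAut Spor.HN} (hC : β C = C) {g : Spor.HN} : β g ∈ hnH ↔ g ∈ hnH := by
  refine ⟨fun h => cent_c hK (β.injective ?_), fun h => cent_c hK ?_⟩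
  · rw [map_mul, map_mul, hC, c_central hK h]
  · conv_lhs => rw [← hC]
    conv_rhs => rw [← hC]
    rw [← map_mul, ← map_mul, c_central hK h]

/-- The point stabiliser inside `⟨x, y, z⟩`. -/
theorem mem_hnU_iff (hK : Faith) {g : Spor.HN} (hg : g ∈ hnH) : g ∈ hnU ↔ phi g (om 1 1) = om 1 1 := by
  obtain ⟨v, hv, rfl⟩ := exists_he hK hg
  rw [he_mem_hnU, ← mem_cls_one, he, phi_smul, smul_om, mul_one, rb_wordEl]
  refine ⟨fun h => om_eq (by omega) (by simpa using inv_mem h), fun h => ?_⟩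
  simpa using (om_inj (by omega) (by omega) h.symm).2

/-- An automorphism fixing the involution and the second coset. -/
structure Keeps (β : MulAut Spor.HN) : Prop where
  c : β C = C
  base : phi (β tt) b0 = om 1 1

theorem Keeps.map_hnU (hK : Faith) {β : MulAut Spor.HN} (h : Keeps β) (g : Spor.HN) : β g ∈ hnU ↔ g ∈ hnU := by
  have key : ∀ a : Spor.HN, a ∈ hnH → (a ∈ hnU ↔ tt⁻¹ * a * tt ∈ hnH) := fun a ha => by
    rw [mem_hnU_iff hK ha, mem_hnH_iff, map_mul, map_mul, Equiv.Perm.mul_apply, Equiv.Perm.mul_apply, t_base,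
      map_inv, Equiv.Perm.inv_def, Equiv.symm_apply_eq, t_base]
  have key' : ∀ a : Spor.HN, a ∈ hnH → (a ∈ hnU ↔ (β tt)⁻¹ * a * β tt ∈ hnH) := fun a ha => by
    rw [mem_hnU_iff hK ha, mem_hnH_iff, map_mul, map_mul, Equiv.Perm.mul_apply, Equiv.Perm.mul_apply, h.base,
      map_inv, Equiv.Perm.inv_def, Equiv.symm_apply_eq, h.base]
  refine ⟨fun hg => ?_, fun hg => ?_⟩
  · have hgH : g ∈ hnH := (HNAuto.map_hnH hK h.c).1 (hnU_le hg)
    rw [key g hgH, ← HNAuto.map_hnH hK h.c, map_mul, map_mul, map_inv, ← key' _ (hnU_le hg)]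
    exact hg
  · have hgH : β g ∈ hnH := (HNAuto.map_hnH hK h.c).2 (hnU_le hg)
    rw [key' _ hgH, ← map_inv, ← map_mul, ← map_mul, HNAuto.map_hnH hK h.c, ← key g (hnU_le hg)]
    exact hg

/-- After an inner automorphism, the second coset is kept. -/
theorem exists_keeps (hK : Faith) {β : MulAut Spor.HN} (hC : β C = C) : ∃ g, Keeps (MulAut.conj g * β) := by
  obtain ⟨i, hi, c, hQ⟩ := exists_om (phi (β tt) b0)
  obtain ⟨kc, rfl⟩ := rho.rangeRestrict_surjective c
  have hi0 : i ≠ 0 := fun e => by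
    subst e
    refine tt_not_mem ((map_hnH hK hC).1 ((mem_hnH_iff _).2 ?_))
    rw [hQ]; exact om_eq (by omega) (by rw [cls_zero]; trivial)
  have hi1 : i = 1 := by
    by_contra hne
    have hmem : ∀ u : hnU, ∃ w : cls i, phi (β u) = phi (toHN kc) *
        (MulAction.toPermHom Kb Om (w : Kb)) * (phi (toHN kc))⁻¹ ∧ rb kc * (w : Kb) * (rb kc)⁻¹ ∈ Set.range rb := by
      rintro ⟨u, hu⟩
      obtain ⟨k, hk⟩ : β u ∈ hnH := (map_hnH hK hC).2 (hnU_le hu)
      have hfix : phi (toHN k) (om i (rb kc)) = om i (rb kc) := by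
        rw [hk, ← hQ, ← Equiv.Perm.mul_apply, ← map_mul, ← map_mul, (tt_comm_hnU hu).eq, map_mul, map_mul,
          Equiv.Perm.mul_apply, hnH_fix _ ((map_hnH hK hC).2 (hnU_le hu))]
      rw [phi_smul, smul_om] at hfix
      have h2 := (om_inj hi hi hfix.symm).2
      rw [← mul_assoc] at h2
      refine ⟨⟨(rb kc)⁻¹ * rb k * rb kc, h2⟩, ?_, ⟨k, by group⟩⟩
      show phi (β u) = phi (toHN kc) * MulAction.toPermHom Kb Om ((rb kc)⁻¹ * rb k * rb kc) * (phi (toHN kc))⁻¹
      rw [← hk, phi_toHN, phi_toHN]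
      simp only [map_mul, map_inv]
      group
    choose w hw hw' using hmem
    haveI : Finite hnU := Nat.finite_of_card_ne_zero (by rw [natCard_hnU hK]; omega)
    have hle : Nat.card hnU ≤ Nat.card (cls i) := Nat.card_le_card_of_injective w fun a b e =>
      Subtype.ext (β.injective (phi_injective hK (by rw [hw a, hw b, e])))
    rw [natCard_hnU hK, natCard_cls_pos (by omega) hi] at hle
    have hs := clsOrd_small
    simp only [List.all_eq_true, List.mem_range, Bool.or_eq_true, Nat.ble_eq, Nat.blt_eq] at hs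
    have h1 := (hs i hi).resolve_left (by omega)
    omega
  subst hi1
  refine ⟨(toHN kc)⁻¹, ⟨?_, ?_⟩⟩
  · show (toHN kc)⁻¹ * β C * (toHN kc)⁻¹⁻¹ = C
    rw [hC, ← c_central hK (inv_mem (show toHN kc ∈ hnH from ⟨kc, rfl⟩)), mul_inv_cancel_right]
  · show phi ((toHN kc)⁻¹ * β tt * (toHN kc)⁻¹⁻¹) b0 = om 1 1
    rw [inv_inv, map_mul, map_mul, Equiv.Perm.mul_apply, Equiv.Perm.mul_apply, hnH_fix _ ⟨kc, rfl⟩, hQ,
      ← map_inv, phi_smul, smul_om, map_inv, inv_mul_cancel]

theorem tt_ne_one : tt ≠ 1 := fun h => tt_not_mem (by rw [h]; exact one_mem _)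

theorem tt_conj_c (hK : Faith) (i : ℤ) : C * tt ^ i = tt ^ (-i) * C := by
  have h4 := x_pow_four hK
  have e : C * tt * C⁻¹ = tt⁻¹ := by rw [c_inv h4, conj_x2 h4]
  calc C * tt ^ i = C * tt ^ i * C⁻¹ * C := by group
    _ = (C * tt * C⁻¹) ^ i * C := by rw [conj_zpow]
    _ = tt ^ (-i) * C := by rw [e, inv_zpow, zpow_neg]

theorem Keeps.map_tt (hK : Faith) {β : MulAut Spor.HN} (h : Keeps β) : ∃ i : ℤ, β tt = tt ^ i := by
  have hcomm : ∀ u ∈ hnU, β tt * u = u * β tt := fun u hu => by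
    have := congrArg β ((tt_comm_hnU ((h.map_hnU hK (β.symm u)).1 (by simpa using hu))).eq)
    simpa using this.symm
  obtain ⟨i, hi | hi⟩ := cent_hnU hK hcomm
  · exact ⟨i, hi⟩
  · exfalso
    have h2 : β (tt * tt) = β 1 := by
      rw [map_mul, hi, map_one, mul_assoc, ← mul_assoc C, tt_conj_c hK, mul_assoc, c_sq (x_pow_four hK),
        mul_one, ← zpow_add, add_neg_cancel, zpow_zero]
    have h3 := β.injective h2
    refine tt_ne_one ?_
    have e := tt_pow_five
    rw [show tt ^ 5 = tt * tt * (tt * tt) * tt by simp only [pow_succ, pow_zero, one_mul, mul_assoc], h3] at e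
    simpa using e

/-- An automorphism fixing the involution and the subgroup generated by `t`. -/
structure Fixes (β : MulAut Spor.HN) : Prop where
  c : β C = C
  tt : ∃ i : ℤ, β HNPresented.tt = HNPresented.tt ^ i

theorem Fixes.tt_unit {β : MulAut Spor.HN} {i : ℤ} (hi : β HNPresented.tt = HNPresented.tt ^ i) :
    ¬ (5 : ℤ) ∣ i := fun ⟨q, hq⟩ => tt_ne_one (β.injective (by
  have ht5 : HNPresented.tt ^ (5 : ℤ) = 1 := by exact_mod_cast tt_pow_five
  rw [hi, map_one, hq, zpow_mul, ht5, one_zpow]))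

/-- The point stabiliser is the centraliser of `t` inside `⟨x, y, z⟩`. -/
theorem mem_hnU_iff_comm (hK : Faith) {g : Spor.HN} (hg : g ∈ hnH) : g ∈ hnU ↔ Commute g HNPresented.tt := by
  refine ⟨tt_comm_hnU, fun h => (mem_hnU_iff hK hg).2 ?_⟩
  rw [← t_base, ← Equiv.Perm.mul_apply, ← map_mul, h.eq, map_mul, Equiv.Perm.mul_apply, hnH_fix g hg]

theorem Fixes.map_hnU (hK : Faith) {β : MulAut Spor.HN} (h : Fixes β) (g : Spor.HN) : β g ∈ hnU ↔ g ∈ hnU := by
  obtain ⟨i, hi⟩ := h.tt
  have h5 : HNPresented.tt ^ (5 : ℤ) = 1 := by exact_mod_cast tt_pow_five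
  refine ⟨fun hg => ?_, fun hg => ?_⟩
  · have hgH := (HNAuto.map_hnH hK h.c).1 (hnU_le hg)
    refine (mem_hnU_iff_comm hK hgH).2 ?_
    have e : Commute (β g) (β HNPresented.tt) := hi ▸ (tt_comm_hnU hg).zpow_right i
    exact β.injective (by rw [map_mul, map_mul, e.eq])
  · refine (mem_hnU_iff_comm hK ((HNAuto.map_hnH hK h.c).2 (hnU_le hg))).2 ?_
    have e : Commute (β g) (HNPresented.tt ^ i) := hi ▸ (tt_comm_hnU hg).map β.toMonoidHom
    have hc : IsCoprime (5 : ℤ) i :=
      (Irreducible.coprime_iff_not_dvd (Int.prime_iff_natAbs_prime.2 (by norm_num)).irreducible).2 (Fixes.tt_unit hi)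
    obtain ⟨a, b, hab⟩ := hc
    rw [← zpow_one HNPresented.tt, ← hab, zpow_add, mul_comm a, zpow_mul, h5, one_zpow, one_mul, mul_comm b, zpow_mul]
    exact e.zpow_right b

theorem Fixes.conj_mem (hK : Faith) {β : MulAut Spor.HN} (h : Fixes β) {g : Spor.HN} (hg : g ∈ hnH) {a : ℤ}
    (ha : g * HNPresented.tt * g⁻¹ = HNPresented.tt ^ a) : Fixes (MulAut.conj g * β) := by
  obtain ⟨i, hi⟩ := h.tt
  refine ⟨?_, a * i, ?_⟩
  · show g * β C * g⁻¹ = C
    rw [h.c, ← c_central hK hg, mul_inv_cancel_right]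
  · show g * β HNPresented.tt * g⁻¹ = _
    rw [hi, ← conj_zpow, ha, zpow_mul]

theorem Fixes.conj_hnU (hK : Faith) {β : MulAut Spor.HN} (h : Fixes β) {g : Spor.HN} (hg : g ∈ hnU) :
    Fixes (MulAut.conj g * β) :=
  h.conj_mem hK (hnU_le hg) (a := 1) (by rw [(tt_comm_hnU hg).eq, mul_inv_cancel_right, zpow_one])

/-- After an inner automorphism, the involution and `⟨t⟩` are kept. -/
theorem exists_fixes (hK : Faith) {β : MulAut Spor.HN} (hC : β C = C) : ∃ g, Fixes (MulAut.conj g * β) := by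
  obtain ⟨g, h⟩ := exists_keeps hK hC
  exact ⟨g, h.c, h.map_tt hK⟩

theorem orderOf_p (hK : Faith) : orderOf (he wp) = 7 := by
  haveI := Fact.mk (show Nat.Prime 7 by norm_num)
  exact orderOf_eq_prime (rels hK).2.1 (rels hK).2.2.2.2.2.2.2.2.2.1

/-- A power that generates. -/
theorem exists_root {G : Type*} [Group G] {a b : G} {p : ℕ} (hp : p.Prime) (ha : orderOf a = p)
    (hb : b ∈ Subgroup.zpowers a) (hb1 : b ≠ 1) : ∃ n : ℤ, b ^ n = a := by
  haveI := Fact.mk hp
  have hbp : orderOf b = p := orderOf_eq_prime (by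
    obtain ⟨k, rfl⟩ := hb
    rw [← zpow_natCast, ← zpow_mul, mul_comm, zpow_mul, zpow_natCast, ← ha, pow_orderOf_eq_one, one_zpow]) hb1
  haveI : Finite (Subgroup.zpowers a) := Nat.finite_of_card_ne_zero (by rw [Nat.card_zpowers, ha]; exact hp.ne_zero)
  have hz := Subgroup.eq_of_le_of_card_ge (Subgroup.zpowers_le.2 hb) (by
    rw [Nat.card_zpowers, Nat.card_zpowers, hbp, ha])
  exact Subgroup.mem_zpowers_iff.1 (hz ▸ Subgroup.mem_zpowers a)

/-- After an inner automorphism, `x` is fixed and `⟨p⟩` is kept. -/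
theorem exists_fix_x (hK : Faith) {β : MulAut Spor.HN} (h : Fixes β) :
    ∃ g, Fixes (MulAut.conj g * β) ∧ (MulAut.conj g * β) X = X ∧
      (MulAut.conj g * β) (he wp) ∈ Subgroup.zpowers (he wp) := by
  haveI : Finite hnU := Nat.finite_of_card_ne_zero (by rw [natCard_hnU hK]; omega)
  haveI := Fact.mk (show Nat.Prime 7 by norm_num)
  obtain ⟨r1, r7, -, -, -, -, -, -, -, rp, -, -⟩ := rels hK
  have hpU : he wp ∈ hnU := gens_fix _ (by simp)
  obtain ⟨⟨v0, hv0⟩, hconj⟩ := exists_conj_zpowers (G := hnU) (p := 7)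
    (by rw [natCard_hnU hK]; decide +kernel)
    (a := ⟨he wp, hpU⟩) (b := ⟨β (he wp), (h.map_hnU hK _).2 hpU⟩)
    (by rw [← Subgroup.orderOf_coe]; exact orderOf_p hK)
    (by rw [← Subgroup.orderOf_coe]; exact (orderOf_injective β.toMonoidHom β.injective _).trans (orderOf_p hK))
  obtain ⟨m, hm⟩ := hconj
  have hm' : he wp ^ m = v0 * β (he wp) * v0⁻¹ := by simpa using congrArg Subtype.val hm
  set δ := MulAut.conj v0 * β with hδ
  have hδf : Fixes δ := h.conj_hnU hK hv0
  have hδp : δ (he wp) = he wp ^ m := hm'.symm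
  have hδ1 : he wp ^ m ≠ 1 := fun e => rp (δ.injective (by rw [hδp, e, map_one]))
  obtain ⟨n, hn⟩ := exists_root (by norm_num) (orderOf_p hK) ⟨m, rfl⟩ hδ1
  -- the image of `x`
  obtain ⟨k, hk⟩ : δ X ∈ hnH := (map_hnH hK hδf.c).2 ⟨kx, rfl⟩
  have hXU : ∀ u ∈ hnU, X⁻¹ * u * X ∈ hnU := by
    rintro _ ⟨u, hu, rfl⟩
    exact ⟨_, (x_conj_fixGroup hu).2, by simp⟩
  obtain ⟨j, hj, e⟩ := fixed_of_all (q := rb k • pt 0) fun g hg => by
    obtain ⟨u, hu, rfl⟩ := exists_fixGroup hg
    obtain ⟨w, hw, hw'⟩ := (hδf.map_hnU hK _).2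
      (hXU _ ((hδf.map_hnU hK (δ.symm (toHN u))).1 (by simpa using ⟨u, hu, rfl⟩)))
    simp only [map_mul, map_inv, MulEquiv.apply_symm_apply, ← hk] at hw'
    have e := rb_eq (show toHN (u * k) = toHN (k * w) by rw [map_mul, map_mul, hw']; group)
    rw [map_mul, map_mul] at e
    rw [← mul_smul, e, mul_smul]
    congr 1
    exact fixGroup_fix hw
  have hu : (X ^ j)⁻¹ * δ X ∈ hnU := by
    refine ⟨(kx ^ j)⁻¹ * k, mem_fixGroup_of_fix ?_, by rw [map_mul, map_inv, map_pow, hk]⟩
    show rb ((kx ^ j)⁻¹ * k) • pt 0 = pt 0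
    rw [map_mul, map_inv, map_pow, mul_smul, inv_smul_eq_iff, ← eb_replicate, e]
  obtain ⟨i, hi⟩ := hδf.tt
  have hi5 := Fixes.tt_unit hi
  have hj1 : j = 1 := by
    have e1 : δ X * tt ^ i * (δ X)⁻¹ = tt ^ (2 * i) := by
      have := congrArg δ (x_conj_tt)
      rw [map_mul, map_mul, map_inv, map_pow, hi] at this
      rw [this, ← zpow_natCast, ← zpow_mul, mul_comm]
      rfl
    have e2 : δ X * tt ^ i * (δ X)⁻¹ = tt ^ (((2 ^ j : ℕ) : ℤ) * i) := by
      have hcu := ((tt_comm_hnU hu).zpow_right i).eq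
      calc δ X * tt ^ i * (δ X)⁻¹ = X ^ j * ((X ^ j)⁻¹ * δ X * tt ^ i) * ((X ^ j)⁻¹ * δ X)⁻¹ * (X ^ j)⁻¹ := by
            group
        _ = X ^ j * tt ^ i * (X ^ j)⁻¹ := by rw [hcu]; group
        _ = (X ^ j * tt * (X ^ j)⁻¹) ^ i := by rw [conj_zpow]
        _ = _ := by rw [x_conj_pow, zpow_mul, zpow_natCast]
    have hd : (5 : ℤ) ∣ ((2 ^ j : ℕ) : ℤ) * i - 2 * i := five_dvd (by
      rw [zpow_sub, ← e2, e1, mul_inv_cancel]; exact one_mem _)
    rw [← sub_mul] at hd
    rcases (Int.Prime.dvd_mul' (show Nat.Prime 5 by norm_num) (by exact_mod_cast hd)) with hd | hd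
    · interval_cases j <;> first | rfl | (exfalso; revert hd; decide)
    · exact absurd hd (by exact_mod_cast hi5)
  subst hj1
  rw [pow_one] at hu
  obtain ⟨v, hv, hev⟩ := exists_he hK (hnU_le hu)
  have hδX : δ X = X * he v := by rw [← hev, mul_inv_cancel_left]
  -- the factor commutes with `p`
  have hvp : he v * he wp = he wp * he v := by
    have e1 : δ X * δ (he wp) * (δ X)⁻¹ = (δ (he wp))⁻¹ := by rw [← map_inv, ← map_mul, ← map_mul, r1, map_inv]
    rw [hδX, hδp] at e1
    have e2 : (X * he wp * X⁻¹) ^ m = (he wp ^ m)⁻¹ := by rw [r1, inv_zpow]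
    rw [conj_zpow] at e2
    have e3 : X * (he v * he wp ^ m * (he v)⁻¹) * X⁻¹ = X * he wp ^ m * X⁻¹ := by rw [e2, ← e1]; group
    have e4 : Commute (he v) (he wp ^ m) := mul_inv_eq_iff_eq_mul.1 (mul_left_cancel (mul_right_cancel e3))
    exact hn ▸ (e4.zpow_right n).eq
  have hsq : he ([0] ++ v ++ ([0] ++ v)) = he [0, 0] := by
    rw [he_append, he_append, he_x, ← hδX, ← map_mul, ← pow_two, hδf.c, he_c]
  obtain ⟨v', hv', hl, e'⟩ := search_spec search_N1 (u := eb v) (fun x hx => by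
    rw [List.mem_singleton] at hx
    subst hx
    rw [← eb_append, ← eb_append]
    refine eb_of_he ?_
    rw [he_append, he_append, he_wpow, pow_one]; exact hvp)
    (by rw [he_mem_hnU.1 (hev ▸ hu), List.mem_singleton]; rfl)
  have hvv : he v = he v' := toHN_eq hK (show rb _ = rb _ from e')
  simp only [normLeaf, Bool.or_eq_true, List.any_eq_true, List.mem_range] at hl
  rcases hl with (hl | hl) | ⟨q, -, hl⟩
  · refine absurd ?_ (neq_he (okW_append hv' (by decide +kernel)) (okW_append (by decide +kernel) hv') hl)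
    rw [he_append, he_append, ← hvv, he_wpow, pow_one, hvp]
  · refine absurd ?_ (neq_he (okW_append (okW_append (by decide) hv') (okW_append (by decide) hv')) (by decide) hl)
    rw [← hsq]
    simp only [he_append, hvv]
  · have hq : he v = he wp ^ q := by rw [hvv, he_eq hK hl, he_wpow]
    set w := he wp ^ (4 * q) with hw
    refine ⟨w * v0, ?_, ?_, ?_⟩
    · rw [map_mul, mul_assoc]
      exact hδf.conj_hnU hK (pow_mem hpU _)
    · rw [map_mul, mul_assoc]
      show w * δ X * w⁻¹ = X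
      rw [hδX, hq, hw]
      have e1 : he wp ^ (4 * q) * X = X * (he wp ^ (4 * q))⁻¹ := by
        have : (X * he wp * X⁻¹) ^ (4 * q) = ((he wp)⁻¹) ^ (4 * q) := by rw [r1]
        rw [conj_pow, inv_pow, mul_inv_eq_iff_eq_mul] at this
        calc he wp ^ (4 * q) * X = he wp ^ (4 * q) * (X * he wp ^ (4 * q)) * (he wp ^ (4 * q))⁻¹ := by group
          _ = _ := by rw [this]; group
      rw [← mul_assoc, e1]
      have e2 : (he wp ^ (4 * q))⁻¹ * he wp ^ q * (he wp ^ (4 * q))⁻¹ = 1 := by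
        have e7 : he wp ^ (7 * q) = 1 := by rw [pow_mul, r7, one_pow]
        have e3 : ∀ a b : ℕ, (he wp ^ a)⁻¹ * he wp ^ b * (he wp ^ a)⁻¹ = he wp ^ ((b : ℤ) - 2 * a) := fun a b => by
          group
        rw [e3, show ((q : ℕ) : ℤ) - 2 * ((4 * q : ℕ) : ℤ) = -((7 * q : ℕ) : ℤ) by push_cast; ring, zpow_neg,
          zpow_natCast, e7, inv_one]
      rw [mul_assoc, mul_assoc, ← mul_assoc ((he wp ^ (4 * q))⁻¹), e2, mul_one]
    · rw [map_mul, mul_assoc]
      show w * δ (he wp) * w⁻¹ ∈ _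
      rw [hδp]
      exact mul_mem (mul_mem (pow_mem (Subgroup.mem_zpowers _) _) ⟨m, rfl⟩)
        (inv_mem (pow_mem (Subgroup.mem_zpowers _) _))

/-- The conjugators normalising the power of `p`. -/
def normer : ℕ → List ℕ
  | 2 => ws ++ ws
  | 3 => ws ++ [0]
  | 4 => ws
  | 5 => ws ++ (ws ++ [0])
  | 6 => [0]
  | _ => []

theorem normer_ok : ((List.range 6).all fun k =>
    topCfg.eqB (normer (k + 1) ++ wpow (k + 1) ++ winv (normer (k + 1))) wp &&
      topCfg.eqB (normer (k + 1) ++ [0]) ([0] ++ normer (k + 1))) = true := by decide +kernel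

/-- The exponents on `t`. -/
def normExp : ℕ → ℤ
  | 3 => 2
  | 5 => 2
  | 6 => 2
  | _ => 1

theorem normExp_spec (hK : Faith) {r : ℕ} (h1 : 1 ≤ r) (h7 : r < 7) :
    he (normer r) * tt * (he (normer r))⁻¹ = tt ^ normExp r := by
  have hs : Commute (he ws) tt := tt_comm_hnU (gens_fix ws (by simp))
  have hx : X * tt * X⁻¹ = tt ^ (2 : ℤ) := by
    rw [x_conj_tt]; exact (zpow_natCast tt 2).symm
  have key : ∀ a, Commute a tt → a * X * tt * (a * X)⁻¹ = tt ^ (2 : ℤ) := fun a ha => by
    calc a * X * tt * (a * X)⁻¹ = a * (X * tt * X⁻¹) * a⁻¹ := by group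
      _ = _ := by rw [hx, (ha.zpow_right 2).eq, mul_inv_cancel_right]
  have _ := hK
  interval_cases r <;> simp only [normer, normExp, he_append, he_nil, he_x]
  · simp
  · rw [(hs.mul_left hs).eq, mul_inv_cancel_right, zpow_one]
  · exact key _ hs
  · rw [hs.eq, mul_inv_cancel_right, zpow_one]
  · rw [← mul_assoc]; exact key _ (hs.mul_left hs)
  · exact hx

theorem sel_s (hK : Faith) {β : MulAut Spor.HN} (h : Fixes β) (hX : β X = X) (hp : β (he wp) = he wp) :
    β (he ws) = he ws := by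
  obtain ⟨-, -, r3, r4, r5, -, -, -, -, -, -, -⟩ := rels hK
  obtain ⟨v, hv, hev⟩ := exists_he hK (hnU_le ((h.map_hnU hK _).2 (gens_fix ws (by simp))))
  have h1 : he (v ++ wp) = he (wpow 2 ++ v) := by
    rw [he_append, he_append, he_wpow, ← hev]
    conv_lhs => rw [← hp]
    conv_rhs => rw [← hp]
    rw [← map_pow, ← map_mul, ← map_mul, r3]
  have h2 : he (v ++ [0]) = he ([0] ++ v) := by
    rw [he_append, he_append, he_x, ← hev]
    conv_lhs => rw [← hX]
    conv_rhs => rw [← hX]
    rw [← map_mul, ← map_mul, r4]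
  have h3 : he (v ++ (v ++ v)) = he [] := by
    rw [he_append, he_append, ← hev, ← map_mul, ← map_mul, he_nil,
      show he ws * (he ws * he ws) = 1 by rw [← r5, pow_succ, pow_two, mul_assoc], map_one]
  obtain ⟨v', hv', hl, e'⟩ := search_spec search_s (u := eb v) (fun x hx => by
    rw [List.mem_singleton] at hx
    subst hx
    rw [← eb_append, ← eb_append]; exact eb_of_he h1)
    (by rw [he_mem_hnU.1 (hev ▸ (h.map_hnU hK _).2 (gens_fix ws (by simp))), List.mem_singleton]; rfl)
  have hvv : he v = he v' := toHN_eq hK (show rb _ = rb _ from e')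
  simp only [Bool.or_eq_true] at hl
  rcases hl with ((hl | hl) | hl) | hl
  · refine absurd ?_ (neq_he (okW_append hv' (by decide +kernel)) (okW_append (by decide +kernel) hv') hl)
    rw [he_append, he_append, ← hvv, ← he_append, ← he_append, h1]
  · refine absurd ?_ (neq_he (okW_append hv' (by decide)) (okW_append (by decide) hv') hl)
    rw [he_append, he_append, ← hvv, ← he_append, ← he_append, h2]
  · refine absurd ?_ (neq_he (okW_append hv' (okW_append hv' hv')) rfl hl)
    rw [← h3]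
    simp only [he_append, hvv]
  · rw [hev, hvv, he_eq hK hl]

theorem sel_h (hK : Faith) {β : MulAut Spor.HN} (h : Fixes β) (hX : β X = X) (hs : β (he ws) = he ws) :
    β (he wh) = he wh := by
  obtain ⟨-, -, -, -, -, r6, r7, r8, -, -, rh, -⟩ := rels hK
  obtain ⟨v, hv, hev⟩ := exists_he hK (hnU_le ((h.map_hnU hK _).2 (gens_fix wh (by simp))))
  have h1 : he (v ++ [0]) = he ([0] ++ v) := by
    rw [he_append, he_append, he_x, ← hev]
    conv_lhs => rw [← hX]
    conv_rhs => rw [← hX]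
    rw [← map_mul, ← map_mul, r6]
  have h2 : he (v ++ ws) = he (ws ++ v) := by
    rw [he_append, he_append, ← hev]
    conv_lhs => rw [← hs]
    conv_rhs => rw [← hs]
    rw [← map_mul, ← map_mul, r7]
  have h3 : he (v ++ v) = he [] := by rw [he_append, ← hev, ← map_mul, r8, map_one, he_nil]
  obtain ⟨v', hv', hl, e'⟩ := search_spec search_h (u := eb v) (fun x hx => by
    simp only [List.mem_cons, List.not_mem_nil, or_false] at hx
    rcases hx with rfl | rfl
    · rw [← eb_append, ← eb_append]; exact eb_of_he h1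
    · rw [← eb_append, ← eb_append]; exact eb_of_he h2)
    (by rw [he_mem_hnU.1 (hev ▸ (h.map_hnU hK _).2 (gens_fix wh (by simp))), List.mem_singleton]; rfl)
  have hvv : he v = he v' := toHN_eq hK (show rb _ = rb _ from e')
  simp only [Bool.or_eq_true] at hl
  rcases hl with (((hl | hl) | hl) | hl) | hl
  · refine absurd ?_ (neq_he (okW_append hv' (by decide)) (okW_append (by decide) hv') hl)
    rw [he_append, he_append, ← hvv, ← he_append, ← he_append, h1]
  · refine absurd ?_ (neq_he (okW_append hv' (by decide +kernel)) (okW_append (by decide +kernel) hv') hl)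
    rw [he_append, he_append, ← hvv, ← he_append, ← he_append, h2]
  · refine absurd ?_ (neq_he (okW_append hv' hv') rfl hl)
    rw [← h3]
    simp only [he_append, hvv]
  · refine absurd (β.injective ?_) rh
    rw [hev, hvv, he_eq hK hl, he_nil, map_one]
  · rw [hev, hvv, he_eq hK hl]

theorem fixes_y (hK : Faith) {β : MulAut Spor.HN} (hp : β (he wp) = he wp) (hh : β (he wh) = he wh) :
    β Y = Y := by
  have key : ∀ l : List ℕ, β (he (l.flatMap yLetter)) = he (l.flatMap yLetter) := by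
    intro l
    induction l with
    | nil => rw [List.flatMap_nil, he_nil, map_one]
    | cons a l ih =>
      rw [List.flatMap_cons, he_append, map_mul, ih]
      congr 1
      rw [yLetter]
      split
      · exact hp
      · split
        · rw [he_winv, map_inv, hp]
        · exact hh
  have := key yWord
  rwa [(rels hK).2.2.2.2.2.2.2.2.1] at this

/-- After an inner automorphism, `x` and `y` are fixed. -/
theorem exists_fix_xy (hK : Faith) (α : MulAut Spor.HN) :
    ∃ g, Fixes (MulAut.conj g * α) ∧ (MulAut.conj g * α) X = X ∧ (MulAut.conj g * α) Y = Y := by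
  obtain ⟨g1, h1⟩ := exists_fix_c hK α
  obtain ⟨g2, h2⟩ := exists_fixes hK h1
  obtain ⟨g3, h3, hX, hp⟩ := exists_fix_x hK h2
  set ε := MulAut.conj g3 * (MulAut.conj g2 * (MulAut.conj g1 * α))
  obtain ⟨m, hm⟩ := hp
  have hm' : ε (he wp) = he wp ^ (m % 7).toNat := by
    rw [← hm, ← zpow_natCast, Int.toNat_of_nonneg (Int.emod_nonneg m (by norm_num))]
    have := zpow_mod_orderOf (he wp) m
    rw [orderOf_p hK] at this
    exact_mod_cast this.symm
  set r := (m % 7).toNat
  have hr : r < 7 := by omega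
  have hr0 : r ≠ 0 := fun e => (rels hK).2.2.2.2.2.2.2.2.2.1 (ε.injective (by rw [hm', e, pow_zero, map_one]))
  have hn := normer_ok
  simp only [List.all_eq_true, List.mem_range, Bool.and_eq_true] at hn
  obtain ⟨n1, n2⟩ := hn (r - 1) (by omega)
  rw [show r - 1 + 1 = r by omega] at n1 n2
  set w := he (normer r) with hw
  have hwH : w ∈ hnH := he_mem _
  have hwX : w * X = X * w := by
    have e := he_eq hK n2
    rwa [he_append, he_append, he_x] at e
  have hwp : w * he wp ^ r * w⁻¹ = he wp := by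
    have e := he_eq hK n1
    rwa [he_append, he_append, he_winv, he_wpow] at e
  refine ⟨w * g3 * g2 * g1, ?_⟩
  have eτ : MulAut.conj (w * g3 * g2 * g1) * α = MulAut.conj w * ε := by simp only [ε, map_mul, mul_assoc]
  rw [eτ]
  set τ := MulAut.conj w * ε with hτ
  have hτX : τ X = X := by
    show w * ε X * w⁻¹ = X
    rw [hX, hwX, mul_inv_cancel_right]
  have hτC : τ C = C := by rw [map_pow, hτX]
  have hτp : τ (he wp) = he wp := by
    show w * ε (he wp) * w⁻¹ = _
    rw [hm', hwp]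
  refine ⟨?_, hτX, fixes_y hK hτp (sel_h hK ?_ hτX (sel_s hK ?_ hτX hτp))⟩ <;>
    exact h3.conj_mem hK hwH (a := normExp r) (normExp_spec hK (by omega) hr)

end

end Cfsg.Agent.HNAuto
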