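import Cfsg.Agent.Lib.HNAuto.Orbital

/-!
# Searches pinning the automorphisms of the stabiliser of a point

* `cent_P` : involutions centralising an element of order 11
* `cent_XW` : the centraliser of two elements of the point stabiliser and `x`
* `norm_p`, `sel_s`, `sel_h` : rigidity of a pair of generators of class `1`
-/

set_option autoImplicit false
set_option maxRecDepth 100000
set_option Elab.async false

open Cfsg

namespace Cfsg.Agent.HNAuto

open Cfsg.Agent.HNPresented Cfsg.Agent.StabCert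

/-- An element of order `11`. -/
def wP : List ℕ := [0, 2, 2, 2, 4, 2, 4]
/-- The word in the tenth relation. -/
def wW : List ℕ := [2, 0, 2, 0, 2, 2, 0, 3]
/-- An element of order `7` inverted by `x`. -/
def wp : List ℕ := [1, 3, 0, 1, 3, 0, 3, 3, 1, 2, 0, 1, 2, 0, 2, 2]
/-- An element of order `3` normalising it. -/
def ws : List ℕ := [1, 3, 0, 1, 3, 0, 2, 1, 2, 0, 2, 2, 2, 1, 2, 0, 3]
/-- An involution centralising it. -/
def wh : List ℕ := [2, 1, 2, 0, 3, 1, 3, 0, 3, 1, 2, 0, 3, 1, 3, 0, 2, 2, 1, 2, 0, 2]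
/-- The powers of the element of order `7`. -/
def wpow : ℕ → List ℕ
  | 0 => []
  | k + 1 => wp ++ wpow k

theorem search_P : search [(wP, wP, 11)] (List.range 1408) (fun v =>
    neq (v ++ wP) (wP ++ v) || neq (v ++ v) [] || topCfg.eqB v [] || topCfg.eqB v [0, 0]) = true := by
  decide +kernel

theorem search_XW : search [(wW, wW, 3), ([0], [0], 2)] (List.range 1408) (fun v =>
    neq (v ++ [0]) ([0] ++ v) || neq (v ++ wW) (wW ++ v) || topCfg.eqB v [] || topCfg.eqB v [0, 0]) = true := by
  decide +kernel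

/-- The test for the normaliser of `⟨p⟩`. -/
def normLeaf (k : ℕ) (v : List ℕ) : Bool :=
  neq (v ++ wp) (wpow k ++ v) || neq ([0] ++ v ++ ([0] ++ v)) [0, 0] ||
    (List.range 7).any fun j => topCfg.eqB v (wpow j)

theorem search_N1 : search [(wp, wpow 1, 7)] [0] (normLeaf 1) = true := by decide +kernel

theorem search_s : search [(wp, wpow 2, 7)] [0] (fun v =>
    neq (v ++ wp) (wpow 2 ++ v) || neq (v ++ [0]) ([0] ++ v) || neq (v ++ (v ++ v)) [] ||
      topCfg.eqB v ws) = true := by decide +kernel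

theorem search_h : search [([0], [0], 4), (ws, ws, 3)] [0] (fun v =>
    neq (v ++ [0]) ([0] ++ v) || neq (v ++ ws) (ws ++ v) || neq (v ++ v) [] ||
      topCfg.eqB v [] || topCfg.eqB v wh) = true := by decide +kernel

/-- `y` in the generators `p`, `p⁻¹`, `h`. -/
def yWord : List ℕ := [1, 2, 0, 0, 0, 2, 0, 0, 2, 1, 2, 0, 0, 2, 1, 2, 0]

/-- The letters of `yWord`. -/
def yLetter (a : ℕ) : List ℕ := if a == 0 then wp else if a == 1 then winv wp else wh

/-- The relations used. -/
def relsOK : Bool :=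
  topCfg.eqB ([0] ++ wp ++ [1]) (winv wp) && topCfg.eqB (wpow 7) [] &&
  topCfg.eqB (ws ++ wp) (wpow 2 ++ ws) && topCfg.eqB (ws ++ [0]) ([0] ++ ws) &&
  topCfg.eqB (ws ++ (ws ++ ws)) [] &&
  topCfg.eqB (wh ++ [0]) ([0] ++ wh) && topCfg.eqB (wh ++ ws) (ws ++ wh) && topCfg.eqB (wh ++ wh) [] &&
  topCfg.eqB (yWord.flatMap yLetter) [2] &&
  neq wp [] && neq wh [] && neq wP [] &&
  (List.range 4).all fun i => StabCert.ev 11 HNPresented.tab ([wp, ws, wh, wW ++ [0]].getD i []) 0 == 0

theorem rels_ok : relsOK = true := by decide +kernel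

end Cfsg.Agent.HNAuto
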